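import Mathlib

/-!
The data at the prime 11 needed for the Sylow normaliser and the classes of elements of order 11 in
a group of the order of `J4`. The datum itself is exhibited in the representation of degree 112.
-/

set_option autoImplicit false

namespace CfsgLib.Spor.J4Local

/-- Generators of an extraspecial subgroup of order `11^3` with enough normalising elements. -/
structure ElevenDatum (G : Type*) [Group G] where
  /-- a non-central element -/
  a : G
  /-- a second generator -/
  b : G
  /-- the central element -/
  c : G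
  a_order : orderOf a = 11
  b_order : orderOf b = 11
  c_order : orderOf c = 11
  comm_ab : a * b * a⁻¹ * b⁻¹ = c
  comm_ac : a * c = c * a
  comm_bc : b * c = c * b
  not_conj : ¬ IsConj c a
  trans : ∀ i j : ℕ, i < 11 → j < 11 → (i ≠ 0 ∨ j ≠ 0) →
    ∃ g ∈ Subgroup.normalizer ((Subgroup.closure {a, b} : Subgroup G) : Set G),
      ∃ k : ℕ, g * a * g⁻¹ = a ^ i * b ^ j * c ^ k
  c_pow : ∀ k : ℕ, k < 11 → k ≠ 0 → IsConj c (c ^ k)
  five : ∃ g ∈ Subgroup.normalizer ((Subgroup.closure {a, b} : Subgroup G) : Set G), orderOf g = 5
  gl23 : ∃ K : Subgroup G, K ≤ Subgroup.normalizer ((Subgroup.closure {a, b} : Subgroup G) : Set G) ∧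
    Nonempty (↥K ≃* GL (Fin 2) (ZMod 3))

end CfsgLib.Spor.J4Local
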