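import Cfsg.Agent.Lib.Spor.J4Local.ElevenTables
import Cfsg.Agent.Lib.Spor.J4Local.ElevenDatum

/-!
The datum at the prime 11 in `J4` and in every group isomorphic to it.
-/

set_option autoImplicit false
set_option maxRecDepth 100000

namespace CfsgLib.Spor.J4Local

open CfsgLib.Spor.J4Rep Eleven11

theorem codes_mul : (codes.all fun p => codes.all fun q =>
    Nat.beq (kmat (mulCode p q)) (mulB 112 (kmat p) (kmat q))) = true := by decide +kernel

theorem codes_ne : (codes.all fun p =>
    Nat.beq p 28 || neqB 112 (kmat p) (oneB 112)) = true := by decide +kernel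

theorem codes_one : Nat.beq (kmat 28) (oneB 112) = true := by decide +kernel

theorem code4_mem (g : GL (Fin 2) (ZMod 3)) : code4 g.val ∈ codes := by
  have key : ∀ a b c d : ZMod 3, a * d - b * c ≠ 0 →
      (27 * a.val + 9 * b.val + 3 * c.val + d.val) ∈ codes := by decide +kernel
  refine key _ _ _ _ ?_
  rw [← Matrix.det_fin_two g.val]
  exact ((Matrix.isUnit_iff_isUnit_det _).1 g.isUnit).ne_zero

/-- the complement isomorphic to `GL₂(3)` -/
noncomputable def glHom : GL (Fin 2) (ZMod 3) →* Cfsg.Spor.J4 where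
  toFun g := kel (code4 g.val)
  map_one' := by
    have h := (kel_spec 28 (by decide +kernel)).1
    rw [Units.val_one, code4_one]
    exact h.eq Rp.one codes_one
  map_mul' g h := by
    have hm := List.all_eq_true.1 (List.all_eq_true.1 codes_mul _ (code4_mem g)) _ (code4_mem h)
    rw [← code4_mul, ← Units.val_mul] at hm
    exact (kel_spec _ (code4_mem (g * h))).1.eq
      ((kel_spec _ (code4_mem g)).1.mul' (kel_spec _ (code4_mem h)).1) hm

theorem glHom_inj : Function.Injective glHom := by
  refine (injective_iff_map_eq_one _).2 fun g hg => Units.ext (code4_inj _ ?_)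
  by_contra hne
  have h := List.all_eq_true.1 codes_ne _ (code4_mem g)
  rw [Bool.or_eq_true] at h
  rcases h with h | h
  · exact hne (Nat.eq_of_beq_eq_true h)
  · exact (kel_spec _ (code4_mem g)).1.ne Rp.one h hg

theorem not_conj_ca : ¬ IsConj ec ea :=
  not_conj_of_rank (P := certP) (R := certR) (L := certL) (M := certM) Rc Ra 11
    (by decide +kernel) (by decide +kernel)

/-- the datum in `J4` -/
noncomputable def elevenJ4 : ElevenDatum Cfsg.Spor.J4 where
  a := ea
  b := eb
  c := ec
  a_order := ord_a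
  b_order := ord_b
  c_order := ord_c
  comm_ab := com_ab
  comm_ac := com_ac
  comm_bc := com_bc
  not_conj := not_conj_ca
  trans := Eleven11.trans
  c_pow := Eleven11.c_pow
  five := five_mem
  gl23 := ⟨glHom.range, by
      rintro _ ⟨g, rfl⟩
      exact (kel_spec _ (code4_mem g)).2,
    ⟨(MonoidHom.ofInjective glHom_inj).symm⟩⟩

namespace ElevenDatum

variable {G H : Type*} [Group G] [Group H]

theorem map_closure (φ : G ≃* H) (a b : G) :
    Subgroup.closure ({φ a, φ b} : Set H) = (Subgroup.closure {a, b}).map φ.toMonoidHom := by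
  rw [MonoidHom.map_closure, Set.image_pair]; rfl

theorem map_mem_normalizer (φ : G ≃* H) {a b g : G}
    (hg : g ∈ Subgroup.normalizer ((Subgroup.closure {a, b} : Subgroup G) : Set G)) :
    φ g ∈ Subgroup.normalizer ((Subgroup.closure {φ a, φ b} : Subgroup H) : Set H) := by
  rw [map_closure, ← Subgroup.map_equiv_normalizer_eq]
  exact Subgroup.mem_map_of_mem φ.toMonoidHom hg

/-- transport along an isomorphism -/
noncomputable def map (D : ElevenDatum G) (φ : G ≃* H) : ElevenDatum H where
  a := φ D.a
  b := φ D.b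
  c := φ D.c
  a_order := (φ.orderOf_eq _).trans D.a_order
  b_order := (φ.orderOf_eq _).trans D.b_order
  c_order := (φ.orderOf_eq _).trans D.c_order
  comm_ab := by rw [← D.comm_ab]; simp
  comm_ac := by rw [← map_mul, D.comm_ac, map_mul]
  comm_bc := by rw [← map_mul, D.comm_bc, map_mul]
  not_conj := fun h => D.not_conj (by
    obtain ⟨g, hg⟩ := isConj_iff.1 h
    exact isConj_iff.2 ⟨φ.symm g, φ.injective (by simpa using hg)⟩)
  trans := fun i j hi hj h => by
    obtain ⟨g, hg, k, e⟩ := D.trans i j hi hj h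
    exact ⟨φ g, map_mem_normalizer φ hg, k, by
      simpa only [map_mul, map_inv, map_pow] using congrArg φ e⟩
  c_pow := fun k hk h => by
    obtain ⟨g, hg⟩ := isConj_iff.1 (D.c_pow k hk h)
    exact isConj_iff.2 ⟨φ g, by rw [← map_inv, ← map_mul, ← map_mul, hg, map_pow]⟩
  five := by
    obtain ⟨g, hg, e⟩ := D.five
    exact ⟨φ g, map_mem_normalizer φ hg, (φ.orderOf_eq _).trans e⟩
  gl23 := by
    obtain ⟨K, hK, ⟨e⟩⟩ := D.gl23
    refine ⟨K.map φ.toMonoidHom, ?_, ⟨(K.equivMapOfInjective _ φ.injective).symm.trans e⟩⟩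
    rintro _ ⟨k, hk, rfl⟩
    exact map_mem_normalizer φ (hK hk)

end ElevenDatum

end CfsgLib.Spor.J4Local
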