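import Mathlib

/-!
Arithmetic of the five large prime divisors of the order of `J4`: the orders of the centralisers
and automisers are forced by Sylow congruences.
-/

set_option autoImplicit false
set_option maxRecDepth 100000

namespace CfsgLib.Spor.J4Local

/-- the order of `J4` -/
def ord4 : ℕ := 86775571046077562880

/-- the five large primes -/
def bigs : List ℕ := [23, 29, 31, 37, 43]

/-- the multiple of the odd part of a centraliser -/
def oddPart (p : ℕ) : ℕ := 11 ^ 3 * ((bigs.filter (fun q => q != p)).prod)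

/-- the divisors of `oddPart` -/
def oddDivs (p : ℕ) : List ℕ :=
  (bigs.filter (fun q => q != p)).foldl (fun l q => l ++ l.map (· * q)) [1, 11, 11 ^ 2, 11 ^ 3]

/-- the known divisor of the automiser -/
def lowE (p : ℕ) : ℕ := if p = 23 then 11 else if p = 31 then 10 else 1

/-- the possible pairs: cofactor of the centraliser and order of the automiser -/
def okPair (p a e : ℕ) : Bool :=
  (p - 1) % e == 0 && e % lowE p == 0 && ord4 % (e * (p * a)) == 0 &&
    ord4 / (e * (p * a)) % p == 1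

/-- the candidates -/
def cand0 (p : ℕ) : List (ℕ × ℕ) :=
  (oddDivs p).flatMap fun a =>
    ((List.range p).filter fun e => okPair p a e).map fun e => (a, e)

/-- the small primes with their powers -/
def smallParts : ℕ := 2 ^ 6 * 3 ^ 4 * 5 ^ 3 * 7 ^ 3

/-- compatibility of the pairs at two primes -/
def compat (p q : ℕ) (s t : ℕ × ℕ) : Bool :=
  ((s.1 % q == 0) == (t.1 % p == 0)) &&
    (!(s.1 % q == 0) || Nat.gcd s.2 smallParts == Nat.gcd t.2 smallParts)

/-- one round of elimination -/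
def step (S : ℕ → List (ℕ × ℕ)) (p : ℕ) : List (ℕ × ℕ) :=
  (S p).filter fun s => (bigs.filter (fun q => q != p)).all fun q => (S q).any fun t => compat p q s t


theorem survivors : ∀ p ∈ bigs, ∀ s ∈ step (step cand0) p,
    s.1 = 1 ∧ (p, s.2) ∈ [(23, 22), (29, 28), (31, 10), (37, 12), (43, 14)] := by decide +kernel

theorem step_mem {S : ℕ → List (ℕ × ℕ)} {f : ℕ → ℕ × ℕ} (hf : ∀ p ∈ bigs, f p ∈ S p)
    (hc : ∀ p ∈ bigs, ∀ q ∈ bigs, q ≠ p → compat p q (f p) (f q) = true) :
    ∀ p ∈ bigs, f p ∈ step S p := by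
  intro p hp
  refine List.mem_filter.2 ⟨hf p hp, List.all_eq_true.2 fun q hq => ?_⟩
  obtain ⟨hq, hne⟩ := List.mem_filter.1 hq
  exact List.any_eq_true.2 ⟨f q, hf q hq, hc p hp q hq (by simpa using hne)⟩

theorem mem_oddDivs_aux : ∀ (l : List ℕ) (B : List ℕ) (m : ℕ), (∀ q ∈ l, q.Prime) →
    (∀ a, a ∣ m → a ∈ B) → ∀ a, a ∣ m * l.prod →
      a ∈ l.foldl (fun l q => l ++ l.map (· * q)) B := by
  intro l
  induction l with
  | nil => intro B m _ hB a ha; exact hB a (by simpa using ha)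
  | cons q l ih =>
    intro B m hpr hB a ha
    refine ih _ (m * q) (fun r hr => hpr r (List.mem_cons_of_mem _ hr)) (fun b hb => ?_) a
      (by rwa [List.prod_cons, ← mul_assoc] at ha)
    obtain ⟨b1, b2, h1, h2, rfl⟩ := exists_dvd_and_dvd_of_dvd_mul hb
    rcases (Nat.dvd_prime (hpr q (List.mem_cons_self ..))).1 h2 with rfl | rfl
    · exact List.mem_append_left _ (by rw [mul_one]; exact hB b1 h1)
    · exact List.mem_append_right _ (List.mem_map.2 ⟨b1, hB b1 h1, rfl⟩)

theorem mem_oddDivs {p a : ℕ} (ha : a ∣ oddPart p) : a ∈ oddDivs p := by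
  refine mem_oddDivs_aux _ _ (11 ^ 3) (fun q hq => ?_) (fun b hb => ?_) a ha
  · have h := (List.mem_filter.1 hq).1
    simp only [bigs, List.mem_cons, List.not_mem_nil, or_false] at h
    rcases h with rfl | rfl | rfl | rfl | rfl <;> norm_num
  · obtain ⟨k, hk, rfl⟩ := (Nat.dvd_prime_pow (by norm_num : Nat.Prime 11)).1 hb
    interval_cases k <;> simp

/-- The pairs of cofactor and automiser order are forced. -/
theorem forced (f : ℕ → ℕ × ℕ)
    (hdiv : ∀ p ∈ bigs, (f p).1 ∣ oddPart p)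
    (he : ∀ p ∈ bigs, (f p).2 ∣ p - 1 ∧ lowE p ∣ (f p).2)
    (hN : ∀ p ∈ bigs, (f p).2 * (p * (f p).1) ∣ ord4 ∧ ord4 / ((f p).2 * (p * (f p).1)) % p = 1)
    (hc : ∀ p ∈ bigs, ∀ q ∈ bigs, q ≠ p → (q ∣ (f p).1 ↔ p ∣ (f q).1) ∧
      (q ∣ (f p).1 → Nat.gcd (f p).2 smallParts = Nat.gcd (f q).2 smallParts)) :
    ∀ p ∈ bigs, (f p).1 = 1 ∧ (p, (f p).2) ∈ [(23, 22), (29, 28), (31, 10), (37, 12), (43, 14)] := by
  intro p hp
  have hc' : ∀ p ∈ bigs, ∀ q ∈ bigs, q ≠ p → compat p q (f p) (f q) = true := by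
    intro p hp q hq hne
    obtain ⟨h1, h2⟩ := hc p hp q hq hne
    rw [Nat.dvd_iff_mod_eq_zero, Nat.dvd_iff_mod_eq_zero] at h1
    rw [Nat.dvd_iff_mod_eq_zero] at h2
    by_cases h : (f p).1 % q = 0
    · simp [compat, h, h1.1 h, h2 h]
    · have h' : ¬(f q).1 % p = 0 := fun e => h (h1.2 e)
      simp [compat, h, h']
  have h0 : ∀ p ∈ bigs, f p ∈ cand0 p := by
    intro p hp
    obtain ⟨he1, he2⟩ := he p hp
    obtain ⟨hN1, hN2⟩ := hN p hp
    have hlt : (f p).2 < p := by
      have hp1 : 1 < p := by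
        simp only [bigs, List.mem_cons, List.not_mem_nil, or_false] at hp
        omega
      have := Nat.le_of_dvd (by omega) he1
      omega
    refine List.mem_flatMap.2 ⟨(f p).1, mem_oddDivs (hdiv p hp),
      List.mem_map.2 ⟨(f p).2, List.mem_filter.2 ⟨List.mem_range.2 hlt, ?_⟩, rfl⟩⟩
    simp [okPair, Nat.mod_eq_zero_of_dvd he1, Nat.mod_eq_zero_of_dvd he2,
      Nat.mod_eq_zero_of_dvd hN1, hN2]
  exact survivors p hp _ (step_mem (step_mem h0 hc') hc' p hp)

end CfsgLib.Spor.J4Local
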