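import Cfsg.Agent.Lib.Spor.J4Local.ElevenDatum
import Cfsg.Agent.Lib.Spor.J4Local.Arith
import Cfsg.Agent.Lib.Small.JankoTwoThree

/-!
The classes of elements of order 11 and the normaliser of a Sylow 11-subgroup, from the datum at
the prime 11, the order of the group and the exclusion of the other primes from the centraliser.
-/

set_option autoImplicit false
set_option linter.unusedSectionVars false
set_option linter.style.haveILetI false

namespace CfsgLib.Spor.J4Local

open Subgroup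

variable {G : Type*} [Group G] (D : ElevenDatum G)

namespace ElevenDatum

/-- the subgroup generated by the two generators -/
def sub : Subgroup G := Subgroup.closure {D.a, D.b}

/-- normal forms -/
def nf (i j k : ℕ) : G := D.a ^ i * D.b ^ j * D.c ^ k

theorem pow_eleven {x : G} (h : orderOf x = 11) (n : ℕ) : x ^ n = x ^ (n % 11) := by
  conv_lhs => rw [← pow_mod_orderOf, h]

theorem swap_ab : D.a * D.b = D.c * (D.b * D.a) := by
  calc D.a * D.b = D.a * D.b * D.a⁻¹ * D.b⁻¹ * (D.b * D.a) := by group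
    _ = _ := by rw [D.comm_ab]

theorem swap_pow (j i : ℕ) :
    D.b ^ j * D.a ^ i = D.a ^ i * D.b ^ j * D.c ^ (10 * i * j) := by
  have hca : Commute D.c D.a := D.comm_ac.symm
  have hcb : Commute D.c D.b := D.comm_bc.symm
  have h11 : D.c ^ 11 = 1 := by rw [← D.c_order]; exact pow_orderOf_eq_one _
  have h1 : D.b * D.a = D.a * D.b * D.c ^ 10 := by
    calc D.b * D.a = (D.b * D.a) * D.c ^ 11 := by rw [h11, mul_one]
      _ = (D.b * D.a) * D.c * D.c ^ 10 := by rw [pow_succ' D.c 10]; group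
      _ = (D.c * (D.b * D.a)) * D.c ^ 10 := by rw [(hcb.mul_right hca).eq]
      _ = _ := by rw [← D.swap_ab]
  have h2 : ∀ i : ℕ, D.b * D.a ^ i = D.a ^ i * D.b * D.c ^ (10 * i) := by
    intro i
    induction i with
    | zero => simp
    | succ i ih =>
      calc D.b * D.a ^ (i + 1) = D.b * D.a ^ i * D.a := by rw [pow_succ, mul_assoc]
        _ = D.a ^ i * D.b * (D.c ^ (10 * i) * D.a) := by rw [ih, mul_assoc]
        _ = D.a ^ i * (D.b * D.a) * D.c ^ (10 * i) := by
            rw [(hca.pow_left (10 * i)).eq]; simp only [mul_assoc]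
        _ = D.a ^ i * (D.a * D.b * D.c ^ 10) * D.c ^ (10 * i) := by rw [h1]
        _ = _ := by rw [pow_succ D.a, show 10 * (i + 1) = 10 + 10 * i by ring, pow_add]
                    simp only [mul_assoc]
  induction j with
  | zero => simp
  | succ j ih =>
    calc D.b ^ (j + 1) * D.a ^ i = D.b ^ j * (D.b * D.a ^ i) := by rw [pow_succ, mul_assoc]
      _ = D.b ^ j * D.a ^ i * (D.b * D.c ^ (10 * i)) := by rw [h2 i]; simp only [mul_assoc]
      _ = D.a ^ i * D.b ^ j * (D.c ^ (10 * i * j) * D.b) * D.c ^ (10 * i) := by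
          rw [ih]; simp only [mul_assoc]
      _ = _ := by
          rw [(hcb.pow_left _).eq, pow_succ, show 10 * i * (j + 1) = 10 * i * j + 10 * i by ring,
            pow_add]
          simp only [mul_assoc]

theorem nf_mul (i j k i' j' k' : ℕ) :
    D.nf i j k * D.nf i' j' k' = D.nf (i + i') (j + j') (k + k' + 10 * i' * j) := by
  have hca : ∀ n m : ℕ, D.c ^ n * D.a ^ m = D.a ^ m * D.c ^ n := fun n m =>
    (Commute.pow_pow (show Commute D.c D.a from D.comm_ac.symm) n m).eq
  have hcb : ∀ n m : ℕ, D.c ^ n * D.b ^ m = D.b ^ m * D.c ^ n := fun n m =>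
    (Commute.pow_pow (show Commute D.c D.b from D.comm_bc.symm) n m).eq
  calc D.nf i j k * D.nf i' j' k'
      = D.a ^ i * D.b ^ j * (D.c ^ k * D.a ^ i') * (D.b ^ j' * D.c ^ k') := by
        simp only [nf, mul_assoc]
    _ = D.a ^ i * (D.b ^ j * D.a ^ i') * (D.c ^ k * D.b ^ j') * D.c ^ k' := by
        rw [hca]; simp only [mul_assoc]
    _ = D.a ^ i * D.a ^ i' * D.b ^ j * (D.c ^ (10 * i' * j) * D.b ^ j') * (D.c ^ k * D.c ^ k') := by
        rw [D.swap_pow, hcb]; simp only [mul_assoc]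
    _ = D.a ^ i * D.a ^ i' * (D.b ^ j * D.b ^ j') * (D.c ^ (10 * i' * j) * (D.c ^ k * D.c ^ k')) := by
        rw [hcb]; simp only [mul_assoc]
    _ = _ := by
        rw [← pow_add, ← pow_add, ← pow_add, ← pow_add, nf]
        ring_nf

theorem nf_zero : D.nf 0 0 0 = 1 := by simp [nf]

theorem a_mem : D.a ∈ D.sub := Subgroup.subset_closure (by simp)

theorem b_mem : D.b ∈ D.sub := Subgroup.subset_closure (by simp)

theorem c_mem : D.c ∈ D.sub := by
  rw [← D.comm_ab]
  exact mul_mem (mul_mem (mul_mem D.a_mem D.b_mem) (inv_mem D.a_mem)) (inv_mem D.b_mem)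

theorem nf_mem (i j k : ℕ) : D.nf i j k ∈ D.sub :=
  mul_mem (mul_mem (pow_mem D.a_mem i) (pow_mem D.b_mem j)) (pow_mem D.c_mem k)

theorem c_pow_eq_one {n : ℕ} : D.c ^ n = 1 ↔ n % 11 = 0 := by
  rw [← orderOf_dvd_iff_pow_eq_one, D.c_order, Nat.dvd_iff_mod_eq_zero]

theorem nf_pow (i j k n : ℕ) :
    D.nf i j k ^ n = D.nf (n * i) (n * j) (n * k + 10 * i * j * ∑ m ∈ Finset.range n, m) := by
  induction n with
  | zero => simp [nf_zero]
  | succ n ih =>
    rw [pow_succ, ih, nf_mul, Finset.sum_range_succ]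
    congr 1 <;> ring

theorem nf_pow_eleven (i j k : ℕ) : D.nf i j k ^ 11 = 1 := by
  rw [D.nf_pow, show (∑ m ∈ Finset.range 11, m) = 11 * 5 by decide, nf,
    show 11 * k + 10 * i * j * (11 * 5) = 11 * (k + 50 * i * j) by ring]
  simp only [pow_mul]
  rw [show D.a ^ 11 = 1 by rw [← D.a_order]; exact pow_orderOf_eq_one _,
    show D.b ^ 11 = 1 by rw [← D.b_order]; exact pow_orderOf_eq_one _,
    show D.c ^ 11 = 1 by rw [← D.c_order]; exact pow_orderOf_eq_one _]
  simp

variable [Finite G]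

theorem exists_nf {x : G} (hx : x ∈ D.sub) : ∃ i j k : ℕ, x = D.nf i j k := by
  have hx' : x ∈ Submonoid.closure ({D.a, D.b} : Set G) := by
    rw [← Subgroup.closure_toSubmonoid_of_finite]
    exact hx
  refine Submonoid.closure_induction (fun y hy => ?_) ⟨0, 0, 0, D.nf_zero.symm⟩ ?_ hx'
  · rcases hy with rfl | rfl
    · exact ⟨1, 0, 0, by simp [nf]⟩
    · exact ⟨0, 1, 0, by simp [nf]⟩
  · rintro u v - - ⟨i, j, k, rfl⟩ ⟨i', j', k', rfl⟩
    exact ⟨_, _, _, D.nf_mul i j k i' j' k'⟩

theorem card_sub : Nat.card ↥D.sub = 11 ^ 3 := by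
  haveI : Fact (Nat.Prime 11) := ⟨by norm_num⟩
  have hle : Nat.card ↥D.sub ≤ 11 ^ 3 := by
    have hs : Function.Surjective (fun t : Fin 11 × Fin 11 × Fin 11 =>
        (⟨D.nf t.1 t.2.1 t.2.2, D.nf_mem _ _ _⟩ : ↥D.sub)) := by
      rintro ⟨x, hx⟩
      obtain ⟨i, j, k, rfl⟩ := D.exists_nf hx
      refine ⟨(⟨i % 11, Nat.mod_lt _ (by norm_num)⟩, ⟨j % 11, Nat.mod_lt _ (by norm_num)⟩,
        ⟨k % 11, Nat.mod_lt _ (by norm_num)⟩), Subtype.ext ?_⟩
      show D.nf _ _ _ = D.nf i j k
      rw [nf, nf, pow_eleven D.a_order i, pow_eleven D.b_order j, pow_eleven D.c_order k]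
    refine (Nat.card_le_card_of_surjective _ hs).trans ?_
    simp [Nat.card_eq_fintype_card]
  have hp : IsPGroup 11 ↥D.sub := by
    rintro ⟨x, hx⟩
    obtain ⟨i, j, k, rfl⟩ := D.exists_nf hx
    exact ⟨1, Subtype.ext (by simpa using D.nf_pow_eleven i j k)⟩
  obtain ⟨n, hn⟩ := IsPGroup.iff_card.1 hp
  have hne : ¬ (⟨D.a, D.a_mem⟩ : ↥D.sub) * ⟨D.b, D.b_mem⟩ = ⟨D.b, D.b_mem⟩ * ⟨D.a, D.a_mem⟩ := by
    intro h
    have h' : D.a * D.b = D.b * D.a := congrArg Subtype.val h
    have hc : D.c = 1 := by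
      rw [← D.comm_ab, h']
      group
    have := D.c_order
    rw [hc, orderOf_one] at this
    exact absurd this (by norm_num)
  rw [hn] at hle ⊢
  have h3 : n ≤ 3 := (Nat.pow_le_pow_iff_right (by norm_num)).1 hle
  interval_cases n
  · haveI := (Nat.card_eq_one_iff_unique.1 (hn.trans (pow_zero 11))).1
    exact absurd (Subsingleton.elim _ _) hne
  · exact absurd ((isCyclic_of_prime_card (by rw [hn, pow_one])).commGroup.mul_comm _ _) hne
  · exact absurd ((IsPGroup.isMulCommutative_of_card_eq_prime_sq hn).is_comm.comm _ _) hne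
  · rfl

theorem noncomm_sub : ∃ x y : ↥D.sub, x * y ≠ y * x := by
  refine ⟨⟨D.a, D.a_mem⟩, ⟨D.b, D.b_mem⟩, fun h => ?_⟩
  have h' : D.a * D.b = D.b * D.a := congrArg Subtype.val h
  have hc : D.c = 1 := by rw [← D.comm_ab, h']; group
  exact absurd (hc ▸ D.c_order) (by rw [orderOf_one]; norm_num)

theorem mem_centre {x : G} (hx : x ∈ D.sub) (hxa : D.a * x = x * D.a) (hxb : D.b * x = x * D.b) :
    x ∈ Subgroup.zpowers D.c := by
  obtain ⟨i, j, k, rfl⟩ := D.exists_nf hx
  have ea : D.nf 1 0 0 = D.a := by simp [nf]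
  have eb : D.nf 0 1 0 = D.b := by simp [nf]
  rw [← ea, D.nf_mul, D.nf_mul] at hxa
  rw [← eb, D.nf_mul, D.nf_mul] at hxb
  simp only [nf, mul_zero, zero_mul, zero_add, add_zero, mul_one, add_comm i 1] at hxa
  simp only [nf, mul_zero, zero_mul, zero_add, add_zero, mul_one, add_comm j 1] at hxb
  have hj : j % 11 = 0 := by
    have h := pow_inj_mod.1 (mul_left_cancel hxa)
    rw [D.c_order] at h
    omega
  have hi : i % 11 = 0 := by
    have h := pow_inj_mod.1 (mul_left_cancel hxb)
    rw [D.c_order] at h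
    omega
  rw [nf, pow_eleven D.a_order, pow_eleven D.b_order, hi, hj, pow_zero, pow_zero, one_mul, one_mul]
  exact Subgroup.pow_mem _ (Subgroup.mem_zpowers _) k

theorem centre_le : Subgroup.zpowers D.c ≤ D.sub := Subgroup.zpowers_le.2 D.c_mem

/-- every element of the subgroup outside the centre is conjugate to `a` in the normaliser -/
theorem conj_a {x : G} (hx : x ∈ D.sub) (hxc : x ∉ Subgroup.zpowers D.c) :
    ∃ g ∈ Subgroup.normalizer (D.sub : Set G), g * D.a * g⁻¹ = x := by
  obtain ⟨i, j, k, rfl⟩ := D.exists_nf hx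
  have hij : i % 11 ≠ 0 ∨ j % 11 ≠ 0 := by
    by_contra h
    rw [not_or, not_not, not_not] at h
    refine hxc ?_
    rw [nf, pow_eleven D.a_order, pow_eleven D.b_order, h.1, h.2, pow_zero, pow_zero, one_mul,
      one_mul]
    exact Subgroup.pow_mem _ (Subgroup.mem_zpowers _) k
  obtain ⟨g, hg, k₀, hk₀⟩ := D.trans (i % 11) (j % 11) (Nat.mod_lt _ (by norm_num))
    (Nat.mod_lt _ (by norm_num)) hij
  have hk₀' : g * D.a * g⁻¹ = D.nf i j k₀ := by
    rw [hk₀, nf, pow_eleven D.a_order i, pow_eleven D.b_order j]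
  have hsolve : ∀ u d : Fin 11, u ≠ 0 → ∃ m : Fin 11, m * u = d := by decide
  have key : ∃ u ∈ D.sub, u * D.nf i j k₀ = D.nf i j k * u := by
    rcases hij with hi | hj
    · obtain ⟨m, hm⟩ := hsolve ⟨10 * i % 11, Nat.mod_lt _ (by norm_num)⟩
        ⟨(k + 10 * k₀) % 11, Nat.mod_lt _ (by norm_num)⟩ (by
          intro h; have := congrArg Fin.val h; simp at this; omega)
      refine ⟨D.nf 0 m 0, D.nf_mem _ _ _, ?_⟩
      rw [D.nf_mul, D.nf_mul, nf, nf, zero_add, add_zero, add_comm (m : ℕ) j]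
      congr 1
      rw [pow_inj_mod, D.c_order]
      have h := congrArg Fin.val hm
      simp only [Fin.val_mul, Nat.mul_mod_mod] at h
      rw [show 10 * i * (m : ℕ) = (m : ℕ) * (10 * i) by ring]
      omega
    · obtain ⟨m, hm⟩ := hsolve ⟨j % 11, Nat.mod_lt _ (by norm_num)⟩
        ⟨(k + 10 * k₀) % 11, Nat.mod_lt _ (by norm_num)⟩ (by
          intro h; have := congrArg Fin.val h; simp at this; omega)
      refine ⟨D.nf m 0 0, D.nf_mem _ _ _, ?_⟩
      rw [D.nf_mul, D.nf_mul, nf, nf, zero_add, add_zero, add_comm (m : ℕ) i]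
      congr 1
      rw [pow_inj_mod, D.c_order]
      have h := congrArg Fin.val hm
      simp only [Fin.val_mul, Nat.mul_mod_mod] at h
      rw [show 10 * (m : ℕ) * j = 10 * ((m : ℕ) * j) by ring]
      omega
  obtain ⟨u, hu, hue⟩ := key
  refine ⟨u * g, mul_mem (Subgroup.le_normalizer hu) hg, ?_⟩
  calc u * g * D.a * (u * g)⁻¹ = u * (g * D.a * g⁻¹) * u⁻¹ := by group
    _ = _ := by rw [hk₀', hue, mul_inv_cancel_right]

theorem a_not_mem_centre : D.a ∉ Subgroup.zpowers D.c := by
  intro h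
  obtain ⟨k, hk⟩ := (mem_powers_iff_mem_zpowers.2 h : D.a ∈ Submonoid.powers D.c)
  simp only at hk
  by_cases hk0 : k % 11 = 0
  · have : D.a = 1 := by rw [← hk, D.c_pow_eq_one]; exact hk0
    exact absurd (this ▸ D.a_order) (by rw [orderOf_one]; norm_num)
  · refine D.not_conj ?_
    rw [← hk, pow_eleven D.c_order]
    exact D.c_pow _ (Nat.mod_lt _ (by norm_num)) hk0

variable (hcard : Nat.card G = ord4)
include hcard

theorem exists_sylow_sub : ∃ S : Sylow 11 G, (S : Subgroup G) = D.sub := by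
  haveI : Fact (Nat.Prime 11) := ⟨by norm_num⟩
  obtain ⟨S, hS⟩ := (IsPGroup.of_card D.card_sub).exists_le_sylow
  refine ⟨S, (Subgroup.eq_of_le_of_card_ge hS ?_).symm⟩
  obtain ⟨n, hn⟩ := IsPGroup.iff_card.1 S.2
  have hd := Subgroup.card_subgroup_dvd_card (S : Subgroup G)
  rw [hn, hcard] at hd
  rw [hn, D.card_sub]
  refine Nat.pow_le_pow_right (by norm_num) ?_
  by_contra h
  have h4 : 11 ^ 4 ∣ ord4 := (pow_dvd_pow 11 (show 4 ≤ n by omega)).trans hd
  exact absurd h4 (by unfold ord4; norm_num)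

/-- every element of order 11 is conjugate to `c` or to `a` -/
theorem classes {w : G} (hw : orderOf w = 11) : IsConj w D.c ∨ IsConj w D.a := by
  haveI : Fact (Nat.Prime 11) := ⟨by norm_num⟩
  obtain ⟨T, hT⟩ := (IsPGroup.of_card (n := 1) (by rw [Nat.card_zpowers, hw, pow_one] :
    Nat.card ↥(Subgroup.zpowers w) = 11 ^ 1)).exists_le_sylow
  obtain ⟨S, hS⟩ := D.exists_sylow_sub hcard
  obtain ⟨g, hg⟩ := MulAction.exists_smul_eq G T S
  have hwS : g * w * g⁻¹ ∈ D.sub := by
    rw [← hS, ← hg]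
    exact Subgroup.smul_mem_pointwise_smul w (MulAut.conj g) _ (hT (Subgroup.mem_zpowers w))
  have hconj : IsConj w (g * w * g⁻¹) := isConj_iff.2 ⟨g, rfl⟩
  by_cases hc : g * w * g⁻¹ ∈ Subgroup.zpowers D.c
  · left
    obtain ⟨k, hk⟩ := (mem_powers_iff_mem_zpowers.2 hc : g * w * g⁻¹ ∈ Submonoid.powers D.c)
    simp only at hk
    refine hconj.trans ?_
    rw [← hk, pow_eleven D.c_order]
    refine (D.c_pow _ (Nat.mod_lt _ (by norm_num)) fun h0 => ?_).symm
    rw [← D.c_pow_eq_one, hk] at h0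
    have h1 : w = 1 := by
      calc w = g⁻¹ * (g * w * g⁻¹) * g := by group
        _ = 1 := by rw [h0]; group
    exact absurd (h1 ▸ hw) (by rw [orderOf_one]; norm_num)
  · right
    obtain ⟨n, -, hn⟩ := D.conj_a hwS hc
    exact hconj.trans (isConj_iff.2 ⟨n, hn⟩).symm

variable (hsmall : ∀ U : Subgroup G, Nat.card ↥U = 11 ^ 3 → ∀ r ∈ [2, 3, 5, 7],
  ¬ r ∣ Nat.card ↥(Subgroup.centralizer (U : Set G)))
variable (hbig : ∀ p ∈ bigs, ∀ W : Subgroup G, Nat.card ↥W = p →
  ¬ 11 ∣ Nat.card ↥(Subgroup.centralizer (W : Set G)))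
include hsmall hbig

theorem centralizer_sub : Subgroup.centralizer (D.sub : Set G) ≤ Subgroup.zpowers D.c := by
  haveI : Fact (Nat.Prime 11) := ⟨by norm_num⟩
  set C := Subgroup.centralizer (D.sub : Set G) with hC
  have hpC : IsPGroup 11 ↥C := by
    rw [IsPGroup.iff_card]
    refine ⟨_, Nat.eq_prime_pow_of_unique_prime_dvd Nat.card_pos.ne' fun {r} hr hd => ?_⟩
    have hrG : r ∣ 2 ^ 21 * 3 ^ 3 * 5 * 7 * 11 ^ 3 * 23 * 29 * 31 * 37 * 43 := by
      have : (2 ^ 21 * 3 ^ 3 * 5 * 7 * 11 ^ 3 * 23 * 29 * 31 * 37 * 43 : ℕ) = ord4 := by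
        unfold ord4; norm_num
      rw [this, ← hcard]
      exact hd.trans (Subgroup.card_subgroup_dvd_card _)
    have hcases : r ∈ [2, 3, 5, 7] ∨ r = 11 ∨ r ∈ bigs := by
      simp only [hr.dvd_mul] at hrG
      simp only [bigs, List.mem_cons, List.not_mem_nil, or_false]
      have hq : ∀ q : ℕ, q.Prime → r ∣ q → r = q := fun q hq h => (Nat.prime_dvd_prime_iff_eq hr hq).1 h
      rcases hrG with ((((((((h | h) | h) | h) | h) | h) | h) | h) | h) | h
      · have := hq 2 (by norm_num) (hr.dvd_of_dvd_pow h); omega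
      · have := hq 3 (by norm_num) (hr.dvd_of_dvd_pow h); omega
      · have := hq 5 (by norm_num) h; omega
      · have := hq 7 (by norm_num) h; omega
      · have := hq 11 (by norm_num) (hr.dvd_of_dvd_pow h); omega
      · have := hq 23 (by norm_num) h; omega
      · have := hq 29 (by norm_num) h; omega
      · have := hq 31 (by norm_num) h; omega
      · have := hq 37 (by norm_num) h; omega
      · have := hq 43 (by norm_num) h; omega
    rcases hcases with h | h | h
    · exact absurd hd (hsmall D.sub D.card_sub r h)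
    · exact h
    · exfalso
      haveI := Fact.mk hr
      obtain ⟨x, hx⟩ := exists_prime_orderOf_dvd_card' (G := ↥C) r hd
      refine hbig r h (Subgroup.zpowers (x : G)) (by rw [Nat.card_zpowers, Subgroup.orderOf_coe, hx]) ?_
      refine (show 11 ∣ Nat.card ↥D.sub by rw [D.card_sub]; exact dvd_pow_self 11 (by norm_num)).trans
        (Subgroup.card_dvd_of_le ?_)
      rw [Subgroup.le_centralizer_iff]
      exact Subgroup.zpowers_le.2 x.2
  have hCN : C ≤ Subgroup.normalizer (D.sub : Set G) := Subgroup.centralizer_le_normalizer _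
  have hp : IsPGroup 11 ↥(C ⊔ D.sub) :=
    hpC.to_sup_of_normal_right' (IsPGroup.of_card D.card_sub) hCN
  obtain ⟨S, hS⟩ := D.exists_sylow_sub hcard
  have hle : C ⊔ D.sub = D.sub :=
    (S.3 hp (by rw [hS]; exact le_sup_right)).trans hS
  intro x hx
  have hxU : x ∈ D.sub := hle ▸ (le_sup_left (a := C)) hx
  exact D.mem_centre hxU (Subgroup.mem_centralizer_iff.1 hx _ D.a_mem)
    (Subgroup.mem_centralizer_iff.1 hx _ D.b_mem)

theorem card_normalizer_sub :
    Nat.card ↥(Subgroup.normalizer (D.sub : Set G)) = 2 ^ 4 * 3 * 5 * 11 ^ 3 := by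
  haveI : Fact (Nat.Prime 11) := ⟨by norm_num⟩
  set N := Subgroup.normalizer (D.sub : Set G) with hN
  set Z := Subgroup.zpowers D.c with hZdef
  have hZc : Nat.card ↥Z = 11 := by rw [hZdef, Nat.card_zpowers, D.c_order]
  -- the normaliser fixes the centre
  have hNZ : N ≤ Subgroup.normalizer (Z : Set G) := by
    refine fun g hg => Subgroup.mem_normalizer_fintype fun x hx => ?_
    have hx' : x ∈ Subgroup.zpowers D.c := hx
    obtain ⟨n, rfl⟩ := Subgroup.mem_zpowers_iff.1 hx'
    refine SetLike.mem_coe.2 (conj_zpow (a := g) (b := D.c) (i := n) ▸ zpow_mem ?_ n)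
    refine D.mem_centre ((Subgroup.mem_normalizer_iff.1 hg _).1 D.c_mem) ?_ ?_
    · show Commute D.a (g * D.c * g⁻¹)
      rw [← Commute.conj_iff g⁻¹, inv_inv, show g⁻¹ * (g * D.c * g⁻¹) * g = D.c by group]
      obtain ⟨i, j, k, hk⟩ := D.exists_nf ((Subgroup.mem_normalizer_iff''.1 hg _).1 D.a_mem)
      rw [hk]
      exact ((Commute.pow_left (show Commute D.a D.c from D.comm_ac) i).mul_left
        (Commute.pow_left (show Commute D.b D.c from D.comm_bc) j)).mul_left
        (Commute.pow_self D.c k)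
    · show Commute D.b (g * D.c * g⁻¹)
      rw [← Commute.conj_iff g⁻¹, inv_inv, show g⁻¹ * (g * D.c * g⁻¹) * g = D.c by group]
      obtain ⟨i, j, k, hk⟩ := D.exists_nf ((Subgroup.mem_normalizer_iff''.1 hg _).1 D.b_mem)
      rw [hk]
      exact ((Commute.pow_left (show Commute D.a D.c from D.comm_ac) i).mul_left
        (Commute.pow_left (show Commute D.b D.c from D.comm_bc) j)).mul_left
        (Commute.pow_self D.c k)
  -- the orbit of `a`
  set A := N ⊓ Subgroup.centralizer ({D.a} : Set G) with hA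
  have hidx : Nat.card ↥N = 1320 * Nat.card ↥A := by
    let a' : ↥N := ⟨D.a, Subgroup.le_normalizer D.a_mem⟩
    have horb : (fun x : ↥N => (x : G)) '' (MulAction.orbit (ConjAct ↥N) a') =
        (D.sub : Set G) \ (Z : Set G) := by
      ext x
      constructor
      · rintro ⟨y, ⟨g, rfl⟩, rfl⟩
        show ((g • a' : ↥N) : G) ∈ _
        rw [ConjAct.smul_def]
        set g' : ↥N := ConjAct.ofConjAct g
        refine ⟨(Subgroup.mem_normalizer_iff.1 g'.2 _).1 D.a_mem, fun hz => D.a_not_mem_centre ?_⟩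
        exact (Subgroup.mem_normalizer_iff.1 (hNZ g'.2) _).2 hz
      · rintro ⟨hx, hxZ⟩
        obtain ⟨g, hg, rfl⟩ := D.conj_a hx hxZ
        exact ⟨_, ⟨ConjAct.toConjAct (⟨g, hg⟩ : ↥N), rfl⟩, rfl⟩
    have hn := congrArg Set.ncard horb
    rw [Set.ncard_image_of_injective _ Subtype.val_injective, Set.ncard_sdiff
      (SetLike.coe_subset_coe.2 D.centre_le) (Set.toFinite _), ← MulAction.index_stabilizer,
      ← Nat.card_coe_set_eq (D.sub : Set G), ← Nat.card_coe_set_eq (Z : Set G)] at hn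
    have hn' : (MulAction.stabilizer (ConjAct ↥N) a').index = 1320 := by
      rw [hn]
      show Nat.card ↥D.sub - Nat.card ↥Z = 1320
      rw [D.card_sub, hZc]
      norm_num
    rw [ConjAct.stabilizer_eq_centralizer] at hn'
    have hcA : Nat.card ↥A = Nat.card ↥(Subgroup.centralizer ({a'} : Set ↥N)) := by
      rw [← Subgroup.card_map_of_injective N.subtype_injective]
      refine congrArg (fun K : Subgroup G => Nat.card ↥K) ?_
      ext x
      constructor
      · rintro ⟨hx, hxa⟩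
        exact ⟨⟨x, hx⟩, Subgroup.mem_centralizer_singleton_iff.2
          (Subtype.ext (Subgroup.mem_centralizer_singleton_iff.1 hxa)), rfl⟩
      · rintro ⟨y, hy, rfl⟩
        exact ⟨y.2, Subgroup.mem_centralizer_singleton_iff.2
          (congrArg Subtype.val (Subgroup.mem_centralizer_singleton_iff.1 hy))⟩
    rw [hcA, ← Subgroup.card_mul_index (Subgroup.centralizer ({a'} : Set ↥N)), mul_comm]
    congr 1
  -- the action of `A` on the centre and on `b`
  set θ : ↥A →* MulAut ↥Z := Z.normalizerMonoidHom.comp (Subgroup.inclusion (inf_le_left.trans hNZ))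
    with hθ
  have hAdvd : Nat.card ↥A ∣ 10 * 11 ^ 3 := by
    rw [← Subgroup.card_mul_index θ.ker, Subgroup.index_ker, mul_comm]
    refine mul_dvd_mul ?_ ?_
    · haveI : IsCyclic ↥Z := isCyclic_of_prime_card hZc
      have hAut : Nat.card (MulAut ↥Z) = 10 := by
        rw [IsCyclic.card_mulAut, hZc, Nat.totient_prime (by norm_num : Nat.Prime 11)]
      rw [← hAut]
      exact Subgroup.card_subgroup_dvd_card _
    · set M := θ.ker with hM
      have hMc : ∀ g : ↥M, ((g : ↥A) : G) * D.c = D.c * ((g : ↥A) : G) := fun g => by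
        have h := congrArg (fun φ : MulAut ↥Z => ((φ ⟨D.c, Subgroup.mem_zpowers _⟩ : ↥Z) : G))
          (MonoidHom.mem_ker.1 g.2)
        have h' : ((g : ↥A) : G) * D.c * ((g : ↥A) : G)⁻¹ = D.c := h
        exact mul_inv_eq_iff_eq_mul.1 h'
      have hMa : ∀ g : ↥M, ((g : ↥A) : G) * D.a = D.a * ((g : ↥A) : G) := fun g =>
        Subgroup.mem_centralizer_singleton_iff.1 (g : ↥A).2.2
      set B := Subgroup.zpowers D.a ⊔ Z with hB
      have hBc : ∀ g : ↥M, ∀ x ∈ B, ((g : ↥A) : G) * x = x * ((g : ↥A) : G) := fun g x hx => by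
        have : B ≤ Subgroup.centralizer ({((g : ↥A) : G)} : Set G) := sup_le
          (Subgroup.zpowers_le.2 (Subgroup.mem_centralizer_singleton_iff.2 (hMa g).symm))
          (Subgroup.zpowers_le.2 (Subgroup.mem_centralizer_singleton_iff.2 (hMc g).symm))
        exact (Subgroup.mem_centralizer_singleton_iff.1 (this hx)).symm
      have hmem : ∀ g : ↥M, ((g : ↥A) : G) * D.b * ((g : ↥A) : G)⁻¹ * D.b⁻¹ ∈ B := by
        intro g
        obtain ⟨i, j, k, hk⟩ := D.exists_nf
          ((Subgroup.mem_normalizer_iff.1 (g : ↥A).2.1 _).1 D.b_mem)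
        have hj : j % 11 = 1 := by
          have e : D.a * D.nf i j k * D.a⁻¹ * (D.nf i j k)⁻¹ = D.c := by
            have h1 : ((g : ↥A) : G) * D.a * ((g : ↥A) : G)⁻¹ = D.a :=
              mul_inv_eq_iff_eq_mul.2 (hMa g)
            have h2 : ((g : ↥A) : G) * D.c * ((g : ↥A) : G)⁻¹ = D.c :=
              mul_inv_eq_iff_eq_mul.2 (hMc g)
            calc D.a * D.nf i j k * D.a⁻¹ * (D.nf i j k)⁻¹
                = ((g : ↥A) : G) * (D.a * D.b * D.a⁻¹ * D.b⁻¹) * ((g : ↥A) : G)⁻¹ := by
                  rw [← hk]; conv_lhs => rw [← h1]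
                  group
              _ = D.c := by rw [D.comm_ab, h2]
          have e' : D.a * D.nf i j k = D.nf i j k * D.a * D.c := by
            calc D.a * D.nf i j k = D.c * (D.nf i j k * D.a) := by
                  rw [← e]; group
              _ = _ := ((((Commute.pow_right D.comm_ac.symm i).mul_right
                  (Commute.pow_right D.comm_bc.symm j)).mul_right
                  (Commute.self_pow D.c k)).mul_right D.comm_ac.symm).eq
          have ea : D.nf 1 0 0 = D.a := by simp [nf]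
          rw [← ea, D.nf_mul, D.nf_mul] at e'
          simp only [nf, mul_zero, zero_mul, zero_add, add_zero, mul_one, add_comm i 1] at e'
          rw [mul_assoc (D.a ^ (1 + i) * D.b ^ j), ← pow_succ] at e'
          have h := pow_inj_mod.1 (mul_left_cancel e')
          rw [D.c_order] at h
          omega
        rw [hk, nf, pow_eleven D.b_order j, hj, pow_one,
          show D.a ^ i * D.b * D.c ^ k * D.b⁻¹ = D.a ^ i * D.c ^ k by
            rw [mul_assoc (D.a ^ i), ← (Commute.pow_left D.comm_bc.symm k).eq]; group]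
        exact mul_mem (le_sup_left (b := Z) (Subgroup.pow_mem _ (Subgroup.mem_zpowers _) i))
          (le_sup_right (a := Subgroup.zpowers D.a) (Subgroup.pow_mem _ (Subgroup.mem_zpowers _) k))
      let ξ : ↥M →* ↥B :=
        { toFun := fun g => ⟨_, hmem g⟩
          map_one' := Subtype.ext (by simp)
          map_mul' := fun g h => Subtype.ext (by
            have e := hBc g _ (hmem h)
            show ((g : ↥A) : G) * ((h : ↥A) : G) * D.b * (((g : ↥A) : G) * ((h : ↥A) : G))⁻¹ *
                D.b⁻¹ = ((g : ↥A) : G) * D.b * ((g : ↥A) : G)⁻¹ * D.b⁻¹ *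
                (((h : ↥A) : G) * D.b * ((h : ↥A) : G)⁻¹ * D.b⁻¹)
            have hab : ∀ x ∈ B, ∀ y ∈ B, x * y = y * x := by
              intro x hx y hy
              have h1 : B ≤ Subgroup.centralizer ({D.a} : Set G) ⊓
                  Subgroup.centralizer ({D.c} : Set G) := by
                refine sup_le (Subgroup.zpowers_le.2 ⟨?_, ?_⟩) (Subgroup.zpowers_le.2 ⟨?_, ?_⟩) <;>
                  apply Subgroup.mem_centralizer_singleton_iff.2
                exacts [rfl, D.comm_ac, D.comm_ac.symm, rfl]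
              have h2 : B ≤ Subgroup.centralizer ({y} : Set G) := by
                refine sup_le (Subgroup.zpowers_le.2 ?_) (Subgroup.zpowers_le.2 ?_) <;>
                  apply Subgroup.mem_centralizer_singleton_iff.2
                exacts [(Subgroup.mem_centralizer_singleton_iff.1 (h1 hy).1).symm,
                  (Subgroup.mem_centralizer_singleton_iff.1 (h1 hy).2).symm]
              exact Subgroup.mem_centralizer_singleton_iff.1 (h2 hx)
            rw [hab _ (hmem g) _ (hmem h)]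
            calc _ = ((g : ↥A) : G) * (((h : ↥A) : G) * D.b * ((h : ↥A) : G)⁻¹ * D.b⁻¹) *
                  (D.b * ((g : ↥A) : G)⁻¹ * D.b⁻¹) := by group
              _ = _ := by rw [e]; group) }
      rw [← Subgroup.card_mul_index ξ.ker, Subgroup.index_ker,
        show (11 : ℕ) ^ 3 = 11 * 11 ^ 2 by norm_num]
      refine mul_dvd_mul ?_ ?_
      · rw [← hZc, ← Subgroup.card_map_of_injective
          (f := A.subtype.comp M.subtype) (Subtype.val_injective.comp Subtype.val_injective)]
        refine Subgroup.card_dvd_of_le ((?_ : _ ≤ Subgroup.centralizer (D.sub : Set G)).trans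
          (D.centralizer_sub hcard hsmall hbig))
        rintro _ ⟨g, hg, rfl⟩
        show ((g : ↥A) : G) ∈ _
        rw [ElevenDatum.sub, Subgroup.centralizer_closure]
        refine Subgroup.mem_centralizer_iff.2 fun x hx => ?_
        rcases hx with rfl | rfl
        · exact (hMa g).symm
        · have h : ((g : ↥A) : G) * D.b * ((g : ↥A) : G)⁻¹ * D.b⁻¹ = 1 :=
            congrArg Subtype.val (MonoidHom.mem_ker.1 hg)
          rw [mul_inv_eq_one, mul_inv_eq_iff_eq_mul] at h
          exact h.symm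
      · refine (Subgroup.card_subgroup_dvd_card _).trans ?_
        obtain ⟨n, hn⟩ := IsPGroup.iff_card.1 ((IsPGroup.of_card D.card_sub).to_le
          (sup_le (Subgroup.zpowers_le.2 D.a_mem) D.centre_le : B ≤ D.sub))
        have hlt : Nat.card ↥B < 11 ^ 3 := by
          rw [← D.card_sub]
          refine lt_of_le_of_ne (Subgroup.card_le_of_le
            (sup_le (Subgroup.zpowers_le.2 D.a_mem) D.centre_le)) fun h => ?_
          have e : B = D.sub := Subgroup.eq_of_le_of_card_ge
            (sup_le (Subgroup.zpowers_le.2 D.a_mem) D.centre_le) h.ge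
          have hbB : D.b ∈ B := by rw [e]; exact D.b_mem
          have h1 : B ≤ Subgroup.centralizer ({D.a} : Set G) := sup_le
            (Subgroup.zpowers_le.2 (Subgroup.mem_centralizer_singleton_iff.2 rfl))
            (Subgroup.zpowers_le.2 (Subgroup.mem_centralizer_singleton_iff.2 D.comm_ac.symm))
          have h2 := Subgroup.mem_centralizer_singleton_iff.1 (h1 hbB)
          have hc : D.c = 1 := by rw [← D.comm_ab, ← h2]; group
          exact absurd (hc ▸ D.c_order) (by rw [orderOf_one]; norm_num)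
        rw [hn] at hlt ⊢
        exact pow_dvd_pow 11 (Nat.lt_succ_iff.1 ((Nat.pow_lt_pow_iff_right (by norm_num)).1 hlt))
  -- upper and lower bounds
  have hup : Nat.card ↥N ∣ 2 ^ 4 * 3 * 5 * 11 ^ 3 := by
    have h1 : Nat.card ↥N ∣ 1320 * (10 * 11 ^ 3) := hidx ▸ mul_dvd_mul_left _ hAdvd
    have h2 : Nat.card ↥N ∣ ord4 := hcard ▸ Subgroup.card_subgroup_dvd_card _
    have h3 := Nat.dvd_gcd h1 h2
    rwa [show Nat.gcd (1320 * (10 * 11 ^ 3)) ord4 = 2 ^ 4 * 3 * 5 * 11 ^ 3 by
      unfold ord4; decide +kernel] at h3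
  refine Nat.dvd_antisymm hup ?_
  have h11 : 11 ^ 3 ∣ Nat.card ↥N := D.card_sub ▸ Subgroup.card_dvd_of_le Subgroup.le_normalizer
  have h5 : 5 ∣ Nat.card ↥N := by
    obtain ⟨g, hg, hg5⟩ := D.five
    rw [← hg5, ← Subgroup.orderOf_mk g hg]
    exact orderOf_dvd_natCard _
  have h48 : 2 ^ 4 * 3 ∣ Nat.card ↥N := by
    obtain ⟨K, hK, ⟨e⟩⟩ := D.gl23
    refine (dvd_of_eq ?_).trans (Subgroup.card_dvd_of_le hK)
    haveI : Fact (Nat.Prime 3) := ⟨Nat.prime_three⟩
    rw [Nat.card_congr e.toEquiv, Matrix.card_GL_field]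
    simp [Fin.prod_univ_two]
  exact Nat.Coprime.mul_dvd_of_dvd_of_dvd (by norm_num)
    (Nat.Coprime.mul_dvd_of_dvd_of_dvd (by norm_num) h48 h5) h11

end ElevenDatum

variable [Finite G] (hcard : Nat.card G = ord4)
include D hcard

/-- exactly two classes of elements of order 11 -/
theorem two_classes : ∃ x y : G, orderOf x = 11 ∧ orderOf y = 11 ∧ ¬ IsConj x y ∧
    ∀ w : G, orderOf w = 11 → IsConj w x ∨ IsConj w y :=
  ⟨D.c, D.a, D.c_order, D.a_order, D.not_conj, fun _ hw => D.classes hcard hw⟩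

variable (hsmall : ∀ U : Subgroup G, Nat.card ↥U = 11 ^ 3 → ∀ r ∈ [2, 3, 5, 7],
  ¬ r ∣ Nat.card ↥(Subgroup.centralizer (U : Set G)))
variable (hbig : ∀ p ∈ bigs, ∀ W : Subgroup G, Nat.card ↥W = p →
  ¬ 11 ∣ Nat.card ↥(Subgroup.centralizer (W : Set G)))
include hsmall hbig

/-- the Sylow 11-subgroups and their normalisers -/
theorem sylow_eleven (U : Sylow 11 G) :
    Cfsg.IsExtraspecial 11 ↥(U : Subgroup G) ∧ Nat.card ↥(U : Subgroup G) = 11 ^ 3 ∧
      Monoid.exponent ↥(U : Subgroup G) = 11 ∧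
      Nat.card ↥(Subgroup.normalizer ((U : Subgroup G) : Set G)) = 2 ^ 4 * 3 * 5 * 11 ^ 3 ∧
      ∃ K : Subgroup G, K ≤ Subgroup.normalizer ((U : Subgroup G) : Set G) ∧
        Nonempty (↥K ≃* GL (Fin 2) (ZMod 3)) := by
  haveI : Fact (Nat.Prime 11) := ⟨by norm_num⟩
  obtain ⟨S, hS⟩ := D.exists_sylow_sub hcard
  obtain ⟨g, hg⟩ := MulAction.exists_smul_eq G S U
  have hU : (U : Subgroup G) = D.sub.map (MulAut.conj g).toMonoidHom := by
    rw [← hS, ← hg]; rfl
  have hinj : Function.Injective (MulAut.conj g).toMonoidHom := (MulAut.conj g).injective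
  rw [hU]
  have hc : Nat.card ↥(D.sub.map (MulAut.conj g).toMonoidHom) = 11 ^ 3 := by
    rw [Subgroup.card_map_of_injective hinj, D.card_sub]
  let e := D.sub.equivMapOfInjective _ hinj
  refine ⟨?_, hc, ?_, ?_, ?_⟩
  · refine CfsgLib.Small.JTwoType.isExtraspecial_of_card_cube hc ?_
    obtain ⟨x, y, hxy⟩ := D.noncomm_sub
    exact ⟨e x, e y, fun h => hxy (e.injective (by rw [map_mul, map_mul]; exact h))⟩
  · refine ((Nat.dvd_prime (by norm_num : Nat.Prime 11)).1 ?_).resolve_left ?_
    · refine Monoid.exponent_dvd_of_forall_pow_eq_one fun x => ?_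
      obtain ⟨⟨y, hy⟩, rfl⟩ := e.surjective x
      obtain ⟨i, j, k, rfl⟩ := D.exists_nf hy
      rw [← map_pow, show (⟨D.nf i j k, hy⟩ : ↥D.sub) ^ 11 = 1 from
        Subtype.ext (by simpa using D.nf_pow_eleven i j k), map_one]
    · rw [Monoid.exp_eq_one_iff]
      intro h
      have := Finite.card_le_one_iff_subsingleton.2 h
      rw [hc] at this
      norm_num at this
  · rw [← Subgroup.map_equiv_normalizer_eq, Subgroup.card_map_of_injective hinj,
      D.card_normalizer_sub hcard hsmall hbig]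
  · obtain ⟨K, hK, ⟨eK⟩⟩ := D.gl23
    refine ⟨K.map (MulAut.conj g).toMonoidHom, ?_,
      ⟨(K.equivMapOfInjective _ hinj).symm.trans eK⟩⟩
    rw [← Subgroup.map_equiv_normalizer_eq]
    exact Subgroup.map_mono hK

end CfsgLib.Spor.J4Local
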