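import Cfsg.Agent.Lib.Spor.J4Local.Final

/-!
The inputs of the analysis at the prime 11: no element of order 2, 3, 5, 7 centralises a subgroup of
order `11^3`, and large primes do not commute with 11.
-/

set_option autoImplicit false

namespace CfsgLib.Spor.J4Local

open Cfsg

theorem not_dvd_eleven_cube (m : ℕ) (hm : m = 2 ^ 21 * 10395 ∨ m = 2 ^ 11 * 887040 ∨
    m = 2 ^ 8 * 3 * 5 * 7 ∨ m = 2 ^ 3 * 3 ^ 2 * 5 * 7) : ¬ 11 ^ 3 ∣ m := by
  rcases hm with rfl | rfl | rfl | rfl <;> norm_num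

variable {G : Type*} [Group G] [Finite G]

/-- a large Sylow subgroup centralises no element of order 11 -/
theorem eleven_not_dvd (hcard : Nat.card G = ord4)
    (h : LargeAt G 23 22 ∧ LargeAt G 29 28 ∧ LargeAt G 31 10 ∧ LargeAt G 37 12 ∧ LargeAt G 43 14) :
    ∀ p ∈ bigs, ∀ W : Subgroup G, Nat.card ↥W = p →
      ¬ 11 ∣ Nat.card ↥(Subgroup.centralizer (W : Set G)) := by
  intro p hp W hW
  haveI := Fact.mk (prime_of_mem_bigs hp)
  obtain ⟨S, hS⟩ := exists_sylow_eq hcard hp W hW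
  have key : ∀ e, LargeAt G p e → Subgroup.centralizer (W : Set G) = W := fun e he => hS ▸ (he S).1
  simp only [bigs, List.mem_cons, List.not_mem_nil, or_false] at hp
  obtain ⟨h1, h2, h3, h4, h5⟩ := h
  rcases hp with rfl | rfl | rfl | rfl | rfl
  · rw [key _ h1, hW]; norm_num
  · rw [key _ h2, hW]; norm_num
  · rw [key _ h3, hW]; norm_num
  · rw [key _ h4, hW]; norm_num
  · rw [key _ h5, hW]; norm_num

end CfsgLib.Spor.J4Local
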