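import Mathlib

/-!
Automisers of subgroups of prime order: `N(U) / C(U)` is cyclic of order dividing `p - 1`, lower
bounds from one normalising element, and the Frattini link between two commuting prime subgroups.
-/

set_option autoImplicit false

namespace CfsgLib.Spor.J4Local

open Subgroup

variable {G : Type*} [Group G]

/-- the order of the automiser `N(U) / C(U)` -/
noncomputable def autOrd (U : Subgroup G) : ℕ :=
  (Subgroup.centralizer (U : Set G)).relIndex (Subgroup.normalizer (U : Set G))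

theorem autOrd_mul_card (U : Subgroup G) :
    autOrd U * Nat.card ↥(Subgroup.centralizer (U : Set G)) =
      Nat.card ↥(Subgroup.normalizer (U : Set G)) := by
  have h := Subgroup.card_mul_index ((Subgroup.centralizer (U : Set G)).subgroupOf
    (Subgroup.normalizer (U : Set G)))
  rw [Nat.card_congr (Subgroup.subgroupOfEquivOfLe
    (show Subgroup.centralizer (U : Set G) ≤ Subgroup.normalizer (U : Set G) from
      Subgroup.centralizer_le_normalizer _)).toEquiv] at h
  rw [autOrd, Subgroup.relIndex, mul_comm]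
  exact h

theorem autOrd_dvd [Finite G] {p : ℕ} [Fact p.Prime] (U : Subgroup G) (hU : Nat.card ↥U = p) :
    autOrd U ∣ p - 1 := by
  haveI : IsCyclic ↥U := isCyclic_of_prime_card hU
  have hA : Nat.card (MulAut ↥U) = p - 1 := by
    rw [IsCyclic.card_mulAut, hU, Nat.totient_prime Fact.out]
  rw [autOrd, Subgroup.relIndex, ← Subgroup.normalizerMonoidHom_ker, Subgroup.index_ker, ← hA]
  exact Subgroup.card_subgroup_dvd_card _

/-- one element inducing an automorphism of prime order bounds the automiser from below -/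
theorem prime_dvd_autOrd [Finite G] {p r k : ℕ} [Fact p.Prime] (hr : r.Prime) (U : Subgroup G)
    (hU : Nat.card ↥U = p) {u g : G} (huU : u ∈ U) (hu : orderOf u = p)
    (hg : g * u * g⁻¹ = u ^ k) (hk : k ^ r % p = 1) (hk1 : k % p ≠ 1) :
    r ∣ autOrd U := by
  have hUz : U = Subgroup.zpowers u :=
    (Subgroup.eq_of_le_of_card_ge (Subgroup.zpowers_le.2 huU)
      (by rw [Nat.card_zpowers, hu, hU])).symm
  have hkp : k % p ≠ 0 := by
    intro h0
    rw [Nat.pow_mod, h0, zero_pow hr.ne_zero, Nat.zero_mod] at hk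
    exact zero_ne_one hk
  have hgN : g ∈ Subgroup.normalizer (U : Set G) := by
    refine Subgroup.mem_normalizer_fintype (S := (U : Set G)) ?_
    intro n hn
    rw [SetLike.mem_coe, hUz, Subgroup.mem_zpowers_iff] at hn ⊢
    obtain ⟨i, rfl⟩ := hn
    exact ⟨(k : ℤ) * i, by rw [← conj_zpow, hg, zpow_mul, zpow_natCast]⟩
  have hconj : ∀ n : ℕ, g ^ n * u * (g ^ n)⁻¹ = u ^ k ^ n := by
    intro n
    induction n with
    | zero => simp
    | succ n ih =>
      calc g ^ (n + 1) * u * (g ^ (n + 1))⁻¹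
          = g ^ n * (g * u * g⁻¹) * (g ^ n)⁻¹ := by rw [pow_succ]; group
        _ = u ^ k ^ (n + 1) := by rw [hg, ← conj_pow, ih, ← pow_mul, pow_succ]
  set gN : ↥(Subgroup.normalizer (U : Set G)) := ⟨g, hgN⟩ with hgNdef
  have happ : ∀ (x : ↥(Subgroup.normalizer (U : Set G))) (v : ↥U),
      ((U.normalizerMonoidHom x v : ↥U) : G) = (x : G) * v * (x : G)⁻¹ := fun x v => rfl
  have hord : orderOf (U.normalizerMonoidHom gN) = r := by
    haveI := Fact.mk hr
    refine orderOf_eq_prime ?_ ?_
    · refine MulEquiv.ext fun v => Subtype.ext ?_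
      obtain ⟨i, hi⟩ := Subgroup.mem_zpowers_iff.1 (hUz ▸ v.2 : (v : G) ∈ Subgroup.zpowers u)
      rw [← map_pow, happ, SubgroupClass.coe_pow, MulAut.one_apply, ← hi, ← conj_zpow, hconj]
      have : u ^ k ^ r = u := by
        conv_lhs => rw [← pow_mod_orderOf, hu, hk, pow_one]
      rw [this]
    · intro h1
      have h2 := congrArg (fun φ : MulAut ↥U => ((φ ⟨u, huU⟩ : ↥U) : G)) h1
      simp only [happ, MulAut.one_apply, hgNdef] at h2
      rw [hg] at h2
      have h3 : u ^ k = u ^ 1 := by rw [pow_one]; exact h2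
      rw [pow_inj_mod, hu] at h3
      exact hk1 (h3.trans (Nat.one_mod_eq_one.2 (Fact.out : p.Prime).one_lt.ne'))
  rw [autOrd, Subgroup.relIndex, ← Subgroup.normalizerMonoidHom_ker, Subgroup.index_ker, ← hord,
    ← Subgroup.orderOf_mk _ (MonoidHom.mem_range.2 ⟨gN, rfl⟩)]
  exact orderOf_dvd_natCard _

/-- Frattini: for a Sylow subgroup `Q` inside `C(U)`, the group `D = N(U) ⊓ N(Q)` induces the whole
automiser of `U`, with a kernel of order dividing `|C(U)|`. -/
theorem autOrd_frattini [Finite G] {q : ℕ} [Fact q.Prime] (U : Subgroup G) (Q : Sylow q G)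
    (hQ : (Q : Subgroup G) ≤ Subgroup.centralizer (U : Set G)) :
    ∃ c, c ∣ Nat.card ↥(Subgroup.centralizer (U : Set G)) ∧
      autOrd U * c = Nat.card ↥(Subgroup.normalizer (U : Set G) ⊓
        Subgroup.normalizer ((Q : Subgroup G) : Set G)) := by
  set N := Subgroup.normalizer (U : Set G) with hNdef
  set C := Subgroup.centralizer (U : Set G) with hCdef
  set θ := U.normalizerMonoidHom
  have hCN : C ≤ N := Subgroup.centralizer_le_normalizer _
  have hQN : (Q : Subgroup G) ≤ N := hQ.trans hCN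
  have hker : θ.ker = C.subgroupOf N := U.normalizerMonoidHom_ker
  set D := (N ⊓ Subgroup.normalizer ((Q : Subgroup G) : Set G)).subgroupOf N with hDdef
  have hrange : (θ.comp D.subtype).range = θ.range := by
    refine le_antisymm (by rintro _ ⟨y, rfl⟩; exact ⟨_, rfl⟩) ?_
    rintro _ ⟨x, rfl⟩
    have hPK : ((Q.subtype hQN : Sylow q ↥N) : Subgroup ↥N) ≤ θ.ker := by
      rw [hker, Sylow.coe_subtype]
      exact fun y hy => hQ hy
    have h := Sylow.normalizer_sup_eq_top' (Q.subtype hQN) hPK
    obtain ⟨d, hd, c, hc, hdc⟩ := Subgroup.mem_sup_of_normal_right.1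
      (h ▸ Subgroup.mem_top x : x ∈ _ ⊔ θ.ker)
    refine ⟨⟨d, Subgroup.mem_subgroupOf.2 ⟨d.2, ?_⟩⟩, ?_⟩
    · refine Subgroup.mem_normalizer_iff.2 fun y => ⟨fun hy => ?_, fun hy => ?_⟩
      · exact ((Subgroup.mem_normalizer_iff.1 hd ⟨y, hQN hy⟩).1 hy)
      · have hyN : y ∈ N := by
          have := N.mul_mem (N.mul_mem (N.inv_mem d.2) (hQN hy)) d.2
          simpa [mul_assoc] using this
        exact ((Subgroup.mem_normalizer_iff.1 hd ⟨y, hyN⟩).2 hy)
    · rw [MonoidHom.comp_apply, ← hdc, map_mul, MonoidHom.mem_ker.1 hc, mul_one]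
      rfl
  refine ⟨Nat.card ↥(θ.comp D.subtype).ker, ?_, ?_⟩
  · rw [← Subgroup.card_map_of_injective
      (f := N.subtype.comp D.subtype) (Subtype.val_injective.comp Subtype.val_injective)]
    refine Subgroup.card_dvd_of_le ?_
    rintro _ ⟨y, hy, rfl⟩
    have h : (y : ↥N) ∈ θ.ker := hy
    rw [hker] at h
    exact h
  · have he : autOrd U = (C.subgroupOf N).index := rfl
    rw [← Nat.card_congr (Subgroup.subgroupOfEquivOfLe
      (inf_le_left : N ⊓ Subgroup.normalizer ((Q : Subgroup G) : Set G) ≤ N)).toEquiv, ← hDdef,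
      he, ← hker, Subgroup.index_ker, ← hrange, ← Subgroup.index_ker, mul_comm,
      Subgroup.card_mul_index]

end CfsgLib.Spor.J4Local
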