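import Mathlib
import Cfsg.Agent.Lib.Spor.J4Local.Arith
import Cfsg.Agent.Lib.Spor.J4Local.Automiser

/-!
A group of the order of `J4` in which no element of order 2, 3, 5 or 7 centralises a large Sylow
subgroup, and with the three lower bounds on automisers: all five large Sylow subgroups are
self-centralising with the forced normalisers.
-/

set_option autoImplicit false

namespace CfsgLib.Spor.J4Local

open Subgroup

variable {G G' : Type*} [Group G] [Group G']

theorem card_centralizer_map (φ : G ≃* G') (U : Subgroup G) :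
    Nat.card ↥(Subgroup.centralizer ((U.map φ.toMonoidHom : Subgroup G') : Set G')) =
      Nat.card ↥(Subgroup.centralizer (U : Set G)) := by
  have h : Subgroup.centralizer ((U.map φ.toMonoidHom : Subgroup G') : Set G') =
      (Subgroup.centralizer (U : Set G)).map φ.toMonoidHom := by
    ext x
    rw [Subgroup.mem_map_equiv, Subgroup.mem_centralizer_iff, Subgroup.mem_centralizer_iff]
    constructor
    · intro hx u hu
      have := congrArg φ.symm (hx _ (Subgroup.mem_map_of_mem φ.toMonoidHom hu))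
      simpa using this
    · rintro hx _ ⟨u, hu, rfl⟩
      have := congrArg φ (hx u hu)
      simpa using this
  rw [h, Subgroup.card_map_of_injective φ.injective]

theorem card_normalizer_map (φ : G ≃* G') (U : Subgroup G) :
    Nat.card ↥(Subgroup.normalizer ((U.map φ.toMonoidHom : Subgroup G') : Set G')) =
      Nat.card ↥(Subgroup.normalizer (U : Set G)) := by
  rw [← Subgroup.map_equiv_normalizer_eq, Subgroup.card_map_of_injective φ.injective]

theorem autOrd_map [Finite G] [Finite G'] (φ : G ≃* G') (U : Subgroup G) :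
    autOrd (U.map φ.toMonoidHom) = autOrd U :=
  Nat.eq_of_mul_eq_mul_right Nat.card_pos (by
    rw [autOrd_mul_card, card_normalizer_map, ← autOrd_mul_card, card_centralizer_map])

theorem sylow_exists_map [Finite G] {p : ℕ} [Fact p.Prime] (P Q : Sylow p G) :
    ∃ φ : G ≃* G, (Q : Subgroup G) = (P : Subgroup G).map φ.toMonoidHom := by
  obtain ⟨g, rfl⟩ := MulAction.exists_smul_eq G P Q
  exact ⟨MulAut.conj g, rfl⟩

theorem prime_of_mem_bigs {p : ℕ} (hp : p ∈ bigs) : p.Prime := by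
  simp only [bigs, List.mem_cons, List.not_mem_nil, or_false] at hp
  rcases hp with rfl | rfl | rfl | rfl | rfl <;> norm_num

theorem ord4_eq : ord4 = 2 ^ 21 * 3 ^ 3 * 5 * 7 * 11 ^ 3 * 23 * 29 * 31 * 37 * 43 := by
  decide +kernel

theorem ord4_exact {p : ℕ} (hp : p ∈ bigs) : p ∣ ord4 ∧ ¬ p ^ 2 ∣ ord4 := by
  simp only [bigs, List.mem_cons, List.not_mem_nil, or_false] at hp
  rcases hp with rfl | rfl | rfl | rfl | rfl <;>
    exact ⟨Nat.dvd_of_mod_eq_zero (by decide +kernel),
      fun h => absurd (Nat.mod_eq_zero_of_dvd h) (by decide +kernel)⟩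

theorem sylow_card_big [Finite G] (hG : Nat.card G = ord4) {p : ℕ} [Fact p.Prime] (hp : p ∈ bigs)
    (U : Sylow p G) : Nat.card ↥(U : Subgroup G) = p := by
  rw [U.card_eq_multiplicity, hG]
  obtain ⟨h1, h2⟩ := ord4_exact hp
  have : (ord4.factorization p) = 1 := by
    have hp' := prime_of_mem_bigs hp
    have h0 : ord4 ≠ 0 := by decide +kernel
    have ha : 1 ≤ ord4.factorization p :=
      (hp'.pow_dvd_iff_le_factorization h0).1 (by rwa [pow_one])
    have hb : ¬ 2 ≤ ord4.factorization p := fun h => h2 ((hp'.pow_dvd_iff_le_factorization h0).2 h)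
    omega
  rw [this, pow_one]

/-- a subgroup of large prime order is a Sylow subgroup -/
theorem exists_sylow_eq [Finite G] (hG : Nat.card G = ord4) {p : ℕ} [Fact p.Prime] (hp : p ∈ bigs)
    (U : Subgroup G) (hU : Nat.card ↥U = p) : ∃ S : Sylow p G, (S : Subgroup G) = U := by
  obtain ⟨S, hS⟩ := (IsPGroup.of_card (by rw [hU, pow_one] : Nat.card ↥U = p ^ 1)).exists_le_sylow
  exact ⟨S, (Subgroup.eq_of_le_of_card_ge hS (by rw [hU, sylow_card_big hG hp])).symm⟩

theorem centralizer_ge [Finite G] {p : ℕ} [Fact p.Prime] (U : Subgroup G) (hU : Nat.card ↥U = p) :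
    U ≤ Subgroup.centralizer (U : Set G) := by
  haveI : IsCyclic ↥U := isCyclic_of_prime_card hU
  exact Subgroup.le_centralizer U

theorem oddPart_dvd {p a : ℕ} (hp : p ∈ bigs) (h : p * a ∣ ord4)
    (hsm : ∀ r ∈ [2, 3, 5, 7], ¬ r ∣ p * a) : a ∣ oddPart p := by
  have he : ord4 = p * (oddPart p * (2 ^ 21 * 3 ^ 3 * 5 * 7)) := by
    simp only [bigs, List.mem_cons, List.not_mem_nil, or_false] at hp
    rcases hp with rfl | rfl | rfl | rfl | rfl <;> decide +kernel
  rw [he] at h
  have h' : a ∣ oddPart p * (2 ^ 21 * 3 ^ 3 * 5 * 7) :=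
    Nat.dvd_of_mul_dvd_mul_left (prime_of_mem_bigs hp).pos h
  have hc : ∀ r ∈ [2, 3, 5, 7], r.Prime → Nat.Coprime a r := fun r hr hrp =>
    ((hrp.coprime_iff_not_dvd).2 fun hd => hsm r hr (hd.trans (Dvd.intro_left p rfl))).symm
  have h2 := hc 2 (by simp) (by norm_num)
  have h3 := hc 3 (by simp) (by norm_num)
  have h5 := hc 5 (by simp) (by norm_num)
  have h7 := hc 7 (by simp) (by norm_num)
  exact (((h2.pow_right 21).mul_right (h3.pow_right 3)).mul_right h5 |>.mul_right h7).dvd_of_dvd_mul_right h'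

theorem gcd_smallParts_eq {a b x y : ℕ} (h : a * x = b * y)
    (hx : ∀ r ∈ [2, 3, 5, 7], ¬ r ∣ x) (hy : ∀ r ∈ [2, 3, 5, 7], ¬ r ∣ y) :
    Nat.gcd a smallParts = Nat.gcd b smallParts := by
  have hco : ∀ z, (∀ r ∈ [2, 3, 5, 7], ¬ r ∣ z) → Nat.Coprime z smallParts := by
    intro z hz
    have hc : ∀ r ∈ [2, 3, 5, 7], r.Prime → Nat.Coprime z r := fun r hr hrp =>
      ((hrp.coprime_iff_not_dvd).2 (hz r hr)).symm
    exact ((((hc 2 (by simp) (by norm_num)).pow_right 6).mul_right
      ((hc 3 (by simp) (by norm_num)).pow_right 4)).mul_right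
      ((hc 5 (by simp) (by norm_num)).pow_right 3)).mul_right
      ((hc 7 (by simp) (by norm_num)).pow_right 3)
  rw [← Nat.Coprime.gcd_mul_right_cancel a (hco x hx), h, Nat.Coprime.gcd_mul_right_cancel b (hco y hy)]

/-- The five large Sylow subgroups. -/
theorem large_sylows [Finite G] (hG : Nat.card G = ord4)
    (hsmall : ∀ p ∈ bigs, ∀ U : Subgroup G, Nat.card ↥U = p → ∀ r ∈ [2, 3, 5, 7],
      ¬ r ∣ Nat.card ↥(Subgroup.centralizer (U : Set G)))
    (hlow : ∀ p ∈ bigs, ∃ U : Subgroup G, Nat.card ↥U = p ∧ lowE p ∣ autOrd U)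
    (p e : ℕ) [Fact p.Prime] (hp : p ∈ bigs)
    (hpe : (p, e) ∈ [(23, 22), (29, 28), (31, 10), (37, 12), (43, 14)]) (U : Sylow p G) :
    Subgroup.centralizer ((U : Subgroup G) : Set G) = (U : Subgroup G) ∧
      Nat.card ↥(Subgroup.normalizer ((U : Subgroup G) : Set G)) = p * e := by
  classical
  choose! V hV hVlow using hlow
  set f : ℕ → ℕ × ℕ := fun q =>
    (Nat.card ↥(Subgroup.centralizer (V q : Set G)) / q, autOrd (V q))
  -- every subgroup of order `q` has the same numbers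
  have hinv : ∀ q ∈ bigs, ∀ W : Subgroup G, Nat.card ↥W = q →
      Nat.card ↥(Subgroup.centralizer (W : Set G)) = q * (f q).1 ∧ autOrd W = (f q).2 := by
    intro q hq W hW
    haveI := Fact.mk (prime_of_mem_bigs hq)
    obtain ⟨S, hS⟩ := exists_sylow_eq hG hq W hW
    obtain ⟨T, hT⟩ := exists_sylow_eq hG hq (V q) (hV q hq)
    obtain ⟨φ, hφ⟩ := sylow_exists_map T S
    rw [hS, hT] at hφ
    have hd : q ∣ Nat.card ↥(Subgroup.centralizer (V q : Set G)) := by
      conv_lhs => rw [← hV q hq]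
      exact Subgroup.card_dvd_of_le (centralizer_ge _ (hV q hq))
    rw [hφ, card_centralizer_map, autOrd_map]
    exact ⟨(Nat.mul_div_cancel' hd).symm, rfl⟩
  have hodd : ∀ q ∈ bigs, ∀ r ∈ [2, 3, 5, 7], ¬ r ∣ q * (f q).1 := fun q hq r hr =>
    (hinv q hq _ (hV q hq)).1 ▸ hsmall q hq _ (hV q hq) r hr
  have hdiv : ∀ q ∈ bigs, (f q).1 ∣ oddPart q := by
    intro q hq
    refine oddPart_dvd hq ?_ (hodd q hq)
    rw [← (hinv q hq _ (hV q hq)).1, ← hG]
    exact Subgroup.card_subgroup_dvd_card _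
  have he : ∀ q ∈ bigs, (f q).2 ∣ q - 1 ∧ lowE q ∣ (f q).2 := fun q hq =>
    haveI := Fact.mk (prime_of_mem_bigs hq)
    ⟨autOrd_dvd _ (hV q hq), hVlow q hq⟩
  have hN : ∀ q ∈ bigs, (f q).2 * (q * (f q).1) ∣ ord4 ∧
      ord4 / ((f q).2 * (q * (f q).1)) % q = 1 := by
    intro q hq
    haveI := Fact.mk (prime_of_mem_bigs hq)
    obtain ⟨T, hT⟩ := exists_sylow_eq hG hq (V q) (hV q hq)
    have hcard : (f q).2 * (q * (f q).1) = Nat.card ↥(Subgroup.normalizer (V q : Set G)) := by
      rw [← (hinv q hq _ (hV q hq)).1, ← autOrd_mul_card]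
    rw [hcard, ← hG]
    refine ⟨Subgroup.card_subgroup_dvd_card _, ?_⟩
    have h1 : Nat.card (Sylow q G) =
        (Subgroup.normalizer ((T : Subgroup G) : Set G)).index := T.card_eq_index_normalizer
    rw [hT] at h1
    have h2 : Nat.card (Sylow q G) % q = 1 % q := card_sylow_modEq_one q G
    rw [h1, Nat.one_mod_eq_one.2 (prime_of_mem_bigs hq).one_lt.ne'] at h2
    rwa [← Subgroup.index_mul_card (Subgroup.normalizer (V q : Set G)),
      Nat.mul_div_cancel _ Nat.card_pos]
  -- two commuting large Sylow subgroups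
  have hpair : ∀ q ∈ bigs, ∀ r ∈ bigs, r ≠ q → r ∣ (f q).1 →
      q ∣ (f r).1 ∧ Nat.gcd (f q).2 smallParts = Nat.gcd (f r).2 smallParts := by
    intro q hq r hr hne hdvd
    haveI := Fact.mk (prime_of_mem_bigs hq)
    haveI := Fact.mk (prime_of_mem_bigs hr)
    set C := Subgroup.centralizer (V q : Set G) with hCdef
    have hrC : r ∣ Nat.card ↥C := by
      rw [(hinv q hq _ (hV q hq)).1]
      exact dvd_mul_of_dvd_right hdvd _
    obtain ⟨w, hw⟩ := exists_prime_orderOf_dvd_card' r hrC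
    set W := Subgroup.zpowers (w : G) with hWdef
    have hWcard : Nat.card ↥W = r := by
      rw [hWdef, Nat.card_zpowers, Subgroup.orderOf_coe, hw]
    have hWC : W ≤ C := Subgroup.zpowers_le.2 w.2
    have hVW : V q ≤ Subgroup.centralizer (W : Set G) := Subgroup.le_centralizer_iff.1 hWC
    obtain ⟨SW, hSW⟩ := exists_sylow_eq hG hr W hWcard
    obtain ⟨SV, hSV⟩ := exists_sylow_eq hG hq (V q) (hV q hq)
    obtain ⟨hWc, hWe⟩ := hinv r hr W hWcard
    constructor
    · have h := Subgroup.card_dvd_of_le hVW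
      rw [hV q hq, hWc] at h
      exact ((prime_of_mem_bigs hq).dvd_mul.1 h).resolve_left fun h' =>
        hne ((Nat.prime_dvd_prime_iff_eq (prime_of_mem_bigs hq) (prime_of_mem_bigs hr)).1 h').symm
    · obtain ⟨x, hx, hxD⟩ := autOrd_frattini (V q) SW (hSW ▸ hWC)
      obtain ⟨y, hy, hyD⟩ := autOrd_frattini W SV (hSV ▸ hVW)
      rw [hSW] at hxD
      rw [hSV, inf_comm, hWe] at hyD
      refine gcd_smallParts_eq (hxD.trans hyD.symm) (fun s hs hd => ?_) (fun s hs hd => ?_)
      · exact hsmall q hq _ (hV q hq) s hs (hd.trans hx)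
      · exact hsmall r hr _ hWcard s hs (hd.trans hy)
  have hc : ∀ q ∈ bigs, ∀ r ∈ bigs, r ≠ q → (r ∣ (f q).1 ↔ q ∣ (f r).1) ∧
      (r ∣ (f q).1 → Nat.gcd (f q).2 smallParts = Nat.gcd (f r).2 smallParts) :=
    fun q hq r hr hne => ⟨⟨fun h => (hpair q hq r hr hne h).1,
      fun h => (hpair r hr q hq hne.symm h).1⟩, fun h => (hpair q hq r hr hne h).2⟩
  obtain ⟨ha, hpe'⟩ := forced f hdiv he hN hc p hp
  have hee : (f p).2 = e := by
    simp only [List.mem_cons, Prod.mk.injEq, List.not_mem_nil, or_false] at hpe hpe'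
    omega
  obtain ⟨hcU, heU⟩ := hinv p hp _ (sylow_card_big hG hp U)
  rw [ha, mul_one] at hcU
  refine ⟨(Subgroup.eq_of_le_of_card_ge (centralizer_ge _ (sylow_card_big hG hp U))
    (by rw [hcU, sylow_card_big hG hp U])).symm, ?_⟩
  rw [← autOrd_mul_card, hcU, heU, hee, mul_comm]

end CfsgLib.Spor.J4Local
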