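import Mathlib.Data.Nat.Notation

/-!
Words in the generators of `J4` normalising subgroups of order 23 and 31, found by search in the
representation of degree 112.
-/

set_option autoImplicit false

namespace CfsgLib.Spor.J4Local

/-- an element of order 23 -/
def u23W : List ℕ := [0, 1]

/-- it conjugates the element of order 23 to its square -/
def g23W : List ℕ := [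
    1, 0, 1, 0, 2, 0, 2, 0, 2, 0, 2, 0, 2, 0, 2, 0, 1, 0, 1, 0, 2, 0, 1, 0, 2, 0, 1, 0, 1, 0, 1, 0,
    1, 0, 1, 0, 1, 0, 1, 0, 2, 0, 2, 0, 2, 0, 2, 0, 1, 0, 2]

/-- an element of order 31 -/
def u31W : List ℕ := [
    2, 0, 1, 0, 2, 0, 1, 0, 1, 0, 2, 0, 1, 0, 2, 0, 1, 0, 1, 0, 2, 0, 1, 3, 1, 0, 2, 0, 1, 0, 3, 2,
    0, 1, 0, 1, 0, 1, 3, 0, 2, 0, 1, 3, 1]

/-- it conjugates the element of order 31 to its square -/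
def g31W : List ℕ := [
    1, 0, 1, 0, 2, 0, 2, 0, 2, 0, 2, 3, 1, 0, 1, 0, 1, 0, 1, 0, 2, 0, 1, 0, 1, 0, 2, 0, 2, 0, 2, 0,
    2, 3, 1, 0, 1, 0, 1, 0, 1, 0, 2, 0, 1, 0, 1, 0, 2, 0, 2, 0, 2, 0, 2, 3, 1, 0, 1, 0, 1, 0, 1, 0,
    1, 0, 1, 0, 2, 0, 1, 0, 2, 0, 1, 0, 2, 0, 2, 0, 2, 0, 1, 3, 1, 0, 2, 0, 1, 0, 3, 2, 0, 1, 0, 1,
    0, 1, 3, 0, 2, 0, 1, 3, 2, 0, 1, 0, 2, 0, 1, 0, 2, 0, 1, 0, 2, 0, 2, 0, 1, 0, 1, 0, 2, 0, 2, 0,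
    1, 0, 1, 0, 2, 0, 2, 0, 2, 0, 2, 3, 1, 0, 1, 0, 1, 0, 1, 0, 2, 0, 1, 0, 1, 0, 2, 0, 2, 0, 2, 0,
    2, 3, 1, 0, 1, 0, 1, 0, 1, 0, 2, 0, 1, 0, 1, 0, 2, 0, 2, 0, 2, 0, 2, 3, 1, 0, 1, 0, 1, 0, 2, 0,
    2, 0, 2, 0, 1, 0, 1, 0, 2, 0, 1, 0, 2, 0, 1, 0, 2, 0, 1, 3, 2, 0, 1, 0, 3, 2, 0, 2, 0, 2, 0, 1,
    3, 0, 2, 0, 1, 0, 2, 3, 2, 0, 1, 0, 1, 0, 1, 0, 2, 0, 1, 0, 2, 0, 1, 0, 2, 0, 1, 0, 1, 0, 1, 0,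
    2, 0, 1, 0, 2, 0, 1, 0, 2, 0, 2, 0, 2, 0, 1, 0, 2, 0, 1, 0, 2, 0, 1, 0, 2, 0, 1, 0, 2, 0, 1, 0,
    2, 0, 1, 0, 2, 0, 2, 0, 1, 0, 2, 0, 2, 0, 1, 0, 2, 0, 1, 0, 2, 0, 1, 0, 2, 0, 2, 0, 1, 0, 1, 0,
    2, 0, 2, 0, 2, 0, 1, 0, 2, 0, 1, 0, 2, 0, 2, 0, 1, 0, 2, 0, 1, 0, 1, 0, 2, 0, 1, 3, 1, 0, 2, 0,
    1, 0, 3, 2, 0, 1, 0, 1, 0, 1, 3, 0, 2, 0, 1, 3, 0, 1, 0, 2, 0, 1, 0, 2, 0, 2, 0, 1, 0, 2, 0, 2,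
    0, 1, 0, 2, 0, 1, 0, 2, 0, 1, 0, 2, 0, 2]

/-- an involution -/
def s31W : List ℕ := [0]

/-- an element of order 31 inverted by the involution -/
def v31W : List ℕ := [
    0, 1, 3, 1, 0, 1, 3, 2, 3, 2, 0, 1, 3, 1, 3, 2, 0, 2, 3, 2]

end CfsgLib.Spor.J4Local
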