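import Cfsg.Agent.Lib.Spor.J4.Card
import Cfsg.Agent.Lib.Spor.J4Cent.Simple
import Cfsg.Agent.Lib.Spor.J4Local.LowerData
import Cfsg.Agent.Lib.Spor.J4Local.Assemble

/-!
Elements of `J4` normalising subgroups of order 23 and 31: the automisers have orders divisible by
11 and 10, in every group isomorphic to `J4`.
-/

set_option autoImplicit false
set_option maxRecDepth 100000

namespace CfsgLib.Spor.J4Local

open CfsgLib.Spor.J4Rep Subgroup

theorem rep_inj : Function.Injective J4Rep.rep :=
  haveI : IsSimpleGroup Cfsg.Spor.J4 := CfsgLib.Spor.J4Cent.isSimpleGroup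
  J4Rep.rep_injective

theorem wval_eq_of_beq {u w : List ℕ} (h : Nat.beq (evalB u) (evalB w) = true) :
    wval u = wval w := rep_inj (rep_eq_of_beq h)

theorem wval_powW (n : ℕ) (w : List ℕ) : wval (powW n w) = wval w ^ n := by
  induction n with
  | zero => simp [powW, wval_nil]
  | succ n ih => rw [powW, wval_append, ih, pow_succ']

theorem wval_conj {g u : List ℕ} {k : ℕ}
    (h : Nat.beq (evalB (g ++ u)) (evalB (powW k u ++ g)) = true) :
    wval g * wval u * (wval g)⁻¹ = wval u ^ k := by
  have h' := wval_eq_of_beq h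
  rw [wval_append, wval_append, wval_powW] at h'
  rw [h', mul_inv_cancel_right]

theorem orderOf_wval {u : List ℕ} {p : ℕ} [Fact p.Prime]
    (h : Nat.beq (evalB (powW p u)) (evalB []) = true)
    (hne : neqB 112 (evalB u) (evalB []) = true) : orderOf (wval u) = p := by
  refine orderOf_eq_prime ?_ ?_
  · rw [← wval_powW, wval_eq_of_beq h, wval_nil]
  · intro e
    exact wval_ne_of_neqB hne (e.trans wval_nil.symm)

theorem ord_u23 : Nat.beq (evalB (powW 23 u23W)) (evalB []) = true := by decide +kernel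
theorem ne_u23 : neqB 112 (evalB u23W) (evalB []) = true := by decide +kernel
theorem conj_u23 : Nat.beq (evalB (g23W ++ u23W)) (evalB (powW 2 u23W ++ g23W)) = true := by
  decide +kernel
theorem ord_u31 : Nat.beq (evalB (powW 31 u31W)) (evalB []) = true := by decide +kernel
theorem ne_u31 : neqB 112 (evalB u31W) (evalB []) = true := by decide +kernel
theorem conj_u31 : Nat.beq (evalB (g31W ++ u31W)) (evalB (powW 2 u31W ++ g31W)) = true := by
  decide +kernel
theorem ord_v31 : Nat.beq (evalB (powW 31 v31W)) (evalB []) = true := by decide +kernel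
theorem ne_v31 : neqB 112 (evalB v31W) (evalB []) = true := by decide +kernel
theorem conj_v31 : Nat.beq (evalB (s31W ++ v31W)) (evalB (powW 30 v31W ++ s31W)) = true := by
  decide +kernel

/-- transport of a lower bound to a subgroup of any isomorphic group -/
theorem prime_dvd_of_words {G : Type*} [Group G] [Finite G] (φ : G ≃* Cfsg.Spor.J4)
    {p r k : ℕ} [Fact p.Prime] (hr : r.Prime) (u g : List ℕ)
    (h : Nat.beq (evalB (powW p u)) (evalB []) = true)
    (hne : neqB 112 (evalB u) (evalB []) = true)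
    (hc : Nat.beq (evalB (g ++ u)) (evalB (powW k u ++ g)) = true)
    (hk : k ^ r % p = 1) (hk1 : k % p ≠ 1) :
    ∃ U : Subgroup G, Nat.card ↥U = p ∧ r ∣ autOrd U := by
  have hu : orderOf (φ.symm (wval u)) = p :=
    (MulEquiv.orderOf_eq φ.symm (wval u)).trans (orderOf_wval h hne)
  have hcard : Nat.card ↥(Subgroup.zpowers (φ.symm (wval u))) = p := by rw [Nat.card_zpowers, hu]
  refine ⟨_, hcard, prime_dvd_autOrd (g := φ.symm (wval g)) hr _ hcard
    (Subgroup.mem_zpowers _) hu ?_ hk hk1⟩
  rw [← map_inv, ← map_mul, ← map_mul, wval_conj hc, map_pow]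

theorem natCard_iso {G : Type*} [Group G] (φ : G ≃* Cfsg.Spor.J4) : Nat.card G = ord4 :=
  (Nat.card_congr φ.toEquiv).trans CfsgLib.Spor.J4.natCard_eq

/-- The lower bounds on the automisers. -/
theorem lower {G : Type*} [Group G] [Finite G] (φ : G ≃* Cfsg.Spor.J4) :
    ∀ p ∈ bigs, ∃ U : Subgroup G, Nat.card ↥U = p ∧ lowE p ∣ autOrd U := by
  intro p hp
  haveI := Fact.mk (prime_of_mem_bigs hp)
  have hG := natCard_iso φ
  simp only [bigs, List.mem_cons, List.not_mem_nil, or_false] at hp
  rcases hp with rfl | rfl | rfl | rfl | rfl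
  · exact prime_dvd_of_words φ (r := 11) (p := 23) (k := 2) (by norm_num) u23W g23W ord_u23 ne_u23
      conj_u23 (by norm_num) (by norm_num)
  · obtain ⟨S⟩ := (inferInstance : Nonempty (Sylow 29 G))
    exact ⟨S, sylow_card_big hG (by decide) S, one_dvd _⟩
  · obtain ⟨U, hU, h5⟩ := prime_dvd_of_words φ (r := 5) (p := 31) (k := 2) (by norm_num)
      u31W g31W ord_u31 ne_u31 conj_u31 (by norm_num) (by norm_num)
    obtain ⟨V, hV, h2⟩ := prime_dvd_of_words φ (r := 2) (p := 31) (k := 30) (by norm_num)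
      v31W s31W ord_v31 ne_v31 conj_v31 (by norm_num) (by norm_num)
    obtain ⟨S, hS⟩ := exists_sylow_eq hG (by decide) U hU
    obtain ⟨T, hT⟩ := exists_sylow_eq hG (by decide) V hV
    obtain ⟨ψ, hψ⟩ := sylow_exists_map S T
    rw [hS, hT] at hψ
    rw [hψ, autOrd_map] at h2
    exact ⟨U, hU, (by norm_num : Nat.Coprime 2 5).mul_dvd_of_dvd_of_dvd h2 h5⟩
  · obtain ⟨S⟩ := (inferInstance : Nonempty (Sylow 37 G))
    exact ⟨S, sylow_card_big hG (by decide) S, one_dvd _⟩
  · obtain ⟨S⟩ := (inferInstance : Nonempty (Sylow 43 G))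
    exact ⟨S, sylow_card_big hG (by decide) S, one_dvd _⟩

end CfsgLib.Spor.J4Local
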