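import Cfsg.Agent.Lib.Spor.J4Local.Exclude
import Cfsg.Agent.Lib.Spor.J4Local.Lower

/-!
The five large Sylow subgroups of a group of fourth Janko type, given the isomorphism with `J4`
and the local facts at 3, 5 and 7.
-/

set_option autoImplicit false

namespace CfsgLib.Spor.J4Local

open Cfsg

/-- the statement for one prime -/
def LargeAt (G : Type*) [Group G] (p e : ℕ) : Prop :=
  ∀ U : Sylow p G, Subgroup.centralizer ((U : Subgroup G) : Set G) = (U : Subgroup G) ∧
    Nat.card ↥(Subgroup.normalizer ((U : Subgroup G) : Set G)) = p * e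

/-- Self-centralising Sylow subgroups for 23, 29, 31, 37 and 43. -/
theorem large_primes {G : Type*} [Group G] [Finite G] [IsSimpleGroup G]
    (hG : ¬ IsMulCommutative G) {z : G} {P : Subgroup G} (hJ : IsOfJankoFourTypeWith z P)
    (φ : G ≃* Cfsg.Spor.J4)
    (h3 : ∀ x y : G, orderOf x = 3 → orderOf y = 3 → IsConj x y)
    (hNP : Subgroup.normalizer (P : Set G) ≤ Subgroup.centralizer ({z} : Set G))
    (h5 : ∀ Q : Subgroup G, Nat.card ↥Q = 5 → Q ≤ Subgroup.centralizer ({z} : Set G) →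
      ¬ (25 ∣ Nat.card G) ∧ Nat.card ↥(Subgroup.normalizer (Q : Set G)) = 2 ^ 8 * 3 * 5 * 7)
    (h7 : ∀ S : Subgroup G, Nat.card ↥S = 7 → S ≤ Subgroup.centralizer ({z} : Set G) →
      ¬ (49 ∣ Nat.card G) ∧ Nat.card ↥(Subgroup.normalizer (S : Set G)) = 2 ^ 3 * 3 ^ 2 * 5 * 7) :
    LargeAt G 23 22 ∧ LargeAt G 29 28 ∧ LargeAt G 31 10 ∧ LargeAt G 37 12 ∧ LargeAt G 43 14 := by
  have hsmall := small_not_dvd hG hJ h3 hNP h5 h7
  have hlow := lower φ
  have key : ∀ p e : ℕ, p ∈ bigs →
      (p, e) ∈ [(23, 22), (29, 28), (31, 10), (37, 12), (43, 14)] → LargeAt G p e := by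
    intro p e hp hpe U
    haveI := Fact.mk (prime_of_mem_bigs hp)
    exact large_sylows (natCard_iso φ) hsmall hlow p e hp hpe U
  exact ⟨key 23 22 (by decide) (by decide), key 29 28 (by decide) (by decide),
    key 31 10 (by decide) (by decide), key 37 12 (by decide) (by decide),
    key 43 14 (by decide) (by decide)⟩

end CfsgLib.Spor.J4Local
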