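import Cfsg.Agent.Lib.Spor.J4Local.Lower

/-!
Elements of `J4` with their packed matrices, built by products, and the checks available for them.
-/

set_option autoImplicit false
set_option maxRecDepth 100000

namespace CfsgLib.Spor.J4Local

open CfsgLib.Spor.J4Rep Matrix

/-- the element has the given packed matrix -/
def Rp (e : Cfsg.Spor.J4) (M : ℕ) : Prop :=
  ((J4Rep.rep e : GL (Fin 112) (ZMod 2)) : Matrix (Fin 112) (Fin 112) (ZMod 2)) = toM 112 M

/-- power of a packed matrix -/
def powB (M : ℕ) : ℕ → ℕ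
  | 0 => oneB 112
  | n + 1 => mulB 112 M (powB M n)

namespace Rp

variable {e f g x a b c : Cfsg.Spor.J4} {M N K X A B C : ℕ}

theorem word {w : List ℕ} (h : Nat.beq (evalB w) M = true) : Rp (wval w) M := by
  rw [Rp, rep_wval, Nat.eq_of_beq_eq_true h]

theorem one : Rp 1 (oneB 112) := by rw [Rp, map_one, Units.val_one, toM_oneB]

theorem mul' (he : Rp e M) (hf : Rp f N) : Rp (e * f) (mulB 112 M N) := by
  rw [Rp, map_mul, Units.val_mul, toM_mulB, he, hf]

theorem mul (he : Rp e M) (hf : Rp f N) (h : Nat.beq (mulB 112 M N) K = true) : Rp (e * f) K := by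
  rw [← Nat.eq_of_beq_eq_true h]; exact mul' he hf

theorem pow (he : Rp e M) : ∀ n : ℕ, Rp (e ^ n) (powB M n)
  | 0 => by rw [pow_zero]; exact one
  | n + 1 => by rw [pow_succ']; exact mul' he (pow he n)

theorem eq (he : Rp e M) (hf : Rp f N) (h : Nat.beq M N = true) : e = f :=
  rep_inj (Units.ext (by rw [he, hf, Nat.eq_of_beq_eq_true h]))

theorem ne (he : Rp e M) (hf : Rp f N) (h : neqB 112 M N = true) : e ≠ f := by
  rintro rfl
  exact neqB_sound h (he.symm.trans hf)

theorem orderOf {p : ℕ} [Fact p.Prime] (he : Rp e M) (h : Nat.beq (powB M p) (oneB 112) = true)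
    (hne : neqB 112 M (oneB 112) = true) : _root_.orderOf e = p :=
  orderOf_eq_prime ((he.pow p).eq one h) (he.ne one hne)

theorem comm (he : Rp e M) (hf : Rp f N)
    (h : Nat.beq (mulB 112 M N) (mulB 112 N M) = true) : e * f = f * e :=
  (he.mul' hf).eq (hf.mul' he) h

theorem commutator (he : Rp e M) (hf : Rp f N) (hg : Rp g K)
    (h : Nat.beq (mulB 112 M N) (mulB 112 (mulB 112 K N) M) = true) : e * f * e⁻¹ * f⁻¹ = g := by
  rw [(he.mul' hf).eq ((hg.mul' hf).mul' he) h]; group

theorem image {i j k : ℕ} (he : Rp e M) (hx : Rp x X) (ha : Rp a A) (hb : Rp b B) (hc : Rp c C)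
    (h : Nat.beq (mulB 112 M X)
      (mulB 112 (mulB 112 (mulB 112 (powB A i) (powB B j)) (powB C k)) M) = true) :
    e * x * e⁻¹ = a ^ i * b ^ j * c ^ k := by
  rw [(he.mul' hx).eq ((((ha.pow i).mul' (hb.pow j)).mul' (hc.pow k)).mul' he) h,
    mul_inv_cancel_right]

theorem conj_pow {k : ℕ} (he : Rp e M) (hc : Rp c C)
    (h : Nat.beq (mulB 112 M C) (mulB 112 (powB C k) M) = true) : e * c * e⁻¹ = c ^ k := by
  rw [(he.mul' hc).eq ((hc.pow k).mul' he) h, mul_inv_cancel_right]

end Rp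

instance finite_J4 : Finite Cfsg.Spor.J4 :=
  Nat.finite_of_card_ne_zero (by rw [CfsgLib.Spor.J4.natCard_eq]; norm_num)

/-- two conjugation relations put an element in the normaliser -/
theorem normalises {G : Type*} [Group G] [Finite G] {a b c h : G} (hc : a * b * a⁻¹ * b⁻¹ = c)
    {i j k i' j' k' : ℕ} (h1 : h * a * h⁻¹ = a ^ i * b ^ j * c ^ k)
    (h2 : h * b * h⁻¹ = a ^ i' * b ^ j' * c ^ k') :
    h ∈ Subgroup.normalizer ((Subgroup.closure {a, b} : Subgroup G) : Set G) := by
  set U := Subgroup.closure ({a, b} : Set G)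
  have ha : a ∈ U := Subgroup.subset_closure (Set.mem_insert _ _)
  have hb : b ∈ U := Subgroup.subset_closure (Set.mem_insert_of_mem _ rfl)
  have hcU : c ∈ U := hc ▸ U.mul_mem (U.mul_mem (U.mul_mem ha hb) (U.inv_mem ha)) (U.inv_mem hb)
  refine Subgroup.mem_normalizer_fintype (S := (U : Set G)) fun n hn => ?_
  have hle : U ≤ U.comap (MulAut.conj h).toMonoidHom := by
    refine (Subgroup.closure_le _).2 ?_
    rintro y (rfl | hy)
    · show h * y * h⁻¹ ∈ U
      rw [h1]
      exact U.mul_mem (U.mul_mem (U.pow_mem ha _) (U.pow_mem hb _)) (U.pow_mem hcU _)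
    · rw [Set.mem_singleton_iff.1 hy]
      show h * b * h⁻¹ ∈ U
      rw [h2]
      exact U.mul_mem (U.mul_mem (U.pow_mem ha _) (U.pow_mem hb _)) (U.pow_mem hcU _)
  exact hle hn

/-- the packed sum of the first `n` powers -/
def sumB (M : ℕ) : ℕ → ℕ
  | 0 => 0
  | n + 1 => sumB M n ^^^ powB M n

theorem toM_xor (P Q : ℕ) : toM 112 (P ^^^ Q) = toM 112 P + toM 112 Q := by
  ext i j
  simp only [toM, Nat.testBit_xor, Matrix.add_apply]
  cases P.testBit (112 * i + j) <;> cases Q.testBit (112 * i + j) <;> decide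

theorem toM_sumB {e : Cfsg.Spor.J4} {M : ℕ} (he : Rp e M) : ∀ n : ℕ,
    toM 112 (sumB M n) = ∑ i ∈ Finset.range n,
      ((J4Rep.rep (e ^ i) : GL (Fin 112) (ZMod 2)) : Matrix (Fin 112) (Fin 112) (ZMod 2))
  | 0 => by ext i j; simp [sumB, toM, bz]
  | n + 1 => by rw [Finset.sum_range_succ, sumB, toM_xor, toM_sumB he n, (he.pow n)]

/-- the diagonal idempotent of rank `m` -/
def diagB (m : ℕ) : ℕ := lanes 113 m

theorem toM_diagB {m : ℕ} (hm : m ≤ 112) :
    toM 112 (diagB m) = Matrix.diagonal fun i : Fin 112 => if (i : ℕ) < m then 1 else 0 := by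
  ext i j
  simp only [toM, diagB, testBit_lanes (by norm_num : 0 < 113)]
  have hi := i.2
  have hj := j.2
  by_cases h : i = j
  · subst h
    rw [Matrix.diagonal_apply_eq]
    by_cases hlt : (i : ℕ) < m
    · rw [if_pos hlt, decide_eq_true (by omega)]; rfl
    · rw [if_neg hlt, decide_eq_false (by omega)]; rfl
  · rw [Matrix.diagonal_apply_ne _ h, decide_eq_false]
    · rfl
    rintro ⟨h1, -⟩
    have hv : (i : ℕ) ≠ j := fun e => h (Fin.ext e)
    omega

theorem rank_diag {m : ℕ} (hm : m ≤ 112) : (toM 112 (diagB m)).rank = m := by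
  rw [toM_diagB hm, Matrix.rank_diagonal, Fintype.card_subtype]
  have : (Finset.univ.filter fun i : Fin 112 => (if (i : ℕ) < m then (1 : ZMod 2) else 0) ≠ 0) =
      Finset.univ.filter fun i : Fin 112 => (i : ℕ) < m := by
    refine Finset.filter_congr fun i _ => ?_
    by_cases h : (i : ℕ) < m <;> simp [h]
  rw [this, Fin.card_filter_val_lt]
  omega

/-- two elements whose sums of powers have different ranks are not conjugate -/
theorem not_conj_of_rank {c a : Cfsg.Spor.J4} {C A P R L M : ℕ} (hc : Rp c C) (ha : Rp a A)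
    (n : ℕ) (h1 : Nat.beq (sumB C n) (mulB 112 (mulB 112 P (diagB 2)) R) = true)
    (h2 : Nat.beq (mulB 112 (mulB 112 L (sumB A n)) M) (diagB 3) = true) : ¬ IsConj c a := by
  intro hconj
  obtain ⟨g, hg⟩ := isConj_iff.1 hconj
  set G : Matrix (Fin 112) (Fin 112) (ZMod 2) := (J4Rep.rep g : GL (Fin 112) (ZMod 2)).val
  set G' : Matrix (Fin 112) (Fin 112) (ZMod 2) := (J4Rep.rep g⁻¹ : GL (Fin 112) (ZMod 2)).val
  have hsum : toM 112 (sumB A n) = G * toM 112 (sumB C n) * G' := by
    rw [toM_sumB ha, toM_sumB hc, Finset.mul_sum, Finset.sum_mul]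
    refine Finset.sum_congr rfl fun i _ => ?_
    rw [← hg, conj_pow, map_mul, map_mul, Units.val_mul, Units.val_mul]
  have hle : (toM 112 (sumB A n)).rank ≤ 2 := by
    rw [hsum, Nat.eq_of_beq_eq_true h1, toM_mulB, toM_mulB]
    refine (Matrix.rank_mul_le_left _ _).trans ((Matrix.rank_mul_le_right _ _).trans ?_)
    exact (Matrix.rank_mul_le_left _ _).trans ((Matrix.rank_mul_le_right _ _).trans
      (rank_diag (by norm_num)).le)
  have hge := (Matrix.rank_mul_le_left (toM 112 L * toM 112 (sumB A n)) (toM 112 M)).trans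
    ((Matrix.rank_mul_le_right _ _).trans hle)
  rw [← toM_mulB, ← toM_mulB, Nat.eq_of_beq_eq_true h2, rank_diag (by norm_num)] at hge
  omega

/-- the code of a matrix of degree 2 over the field of three elements -/
def code4 (A : Matrix (Fin 2) (Fin 2) (ZMod 3)) : ℕ :=
  27 * (A 0 0).val + 9 * (A 0 1).val + 3 * (A 1 0).val + (A 1 1).val

/-- the product on codes -/
def mulCode (p q : ℕ) : ℕ :=
  27 * ((p / 27 * (q / 27) + p / 9 % 3 * (q / 3 % 3)) % 3) +
    9 * ((p / 27 * (q / 9 % 3) + p / 9 % 3 * (q % 3)) % 3) +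
    3 * ((p / 3 % 3 * (q / 27) + p % 3 * (q / 3 % 3)) % 3) +
    (p / 3 % 3 * (q / 9 % 3) + p % 3 * (q % 3)) % 3

theorem code4_mul (A B : Matrix (Fin 2) (Fin 2) (ZMod 3)) :
    code4 (A * B) = mulCode (code4 A) (code4 B) := by
  have key : ∀ a b c d a' b' c' d' : ZMod 3,
      27 * (a * a' + b * c').val + 9 * (a * b' + b * d').val + 3 * (c * a' + d * c').val +
        (c * b' + d * d').val =
      mulCode (27 * a.val + 9 * b.val + 3 * c.val + d.val)
        (27 * a'.val + 9 * b'.val + 3 * c'.val + d'.val) := by decide +kernel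
  simp only [code4, Matrix.mul_apply, Fin.sum_univ_two]
  exact key _ _ _ _ _ _ _ _

theorem code4_one : code4 1 = 28 := by decide +kernel

theorem code4_inj : ∀ A : Matrix (Fin 2) (Fin 2) (ZMod 3), code4 A = 28 → A = 1 := by
  decide +kernel

end CfsgLib.Spor.J4Local
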