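import Cfsg.Agent.Lib.Spor.J4Local.ElevenNodes6

/-!
The relations and conjugation tables at the prime 11 (generated).
-/

set_option autoImplicit false
set_option maxRecDepth 100000

namespace CfsgLib.Spor.J4Local.Eleven11

open CfsgLib.Spor.J4Rep

/-- a non-central element -/
noncomputable abbrev ea : Cfsg.Spor.J4 := E73

/-- a second generator -/
noncomputable abbrev eb : Cfsg.Spor.J4 := E81

/-- the central element -/
noncomputable abbrev ec : Cfsg.Spor.J4 := E92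

instance : Fact (Nat.Prime 11) := ⟨by norm_num⟩

instance : Fact (Nat.Prime 5) := ⟨by norm_num⟩

theorem ord_a : orderOf ea = 11 := R73.orderOf (by decide +kernel) (by decide +kernel)

theorem ord_b : orderOf eb = 11 := R81.orderOf (by decide +kernel) (by decide +kernel)

theorem ord_c : orderOf ec = 11 := R92.orderOf (by decide +kernel) (by decide +kernel)

theorem five : orderOf E149 = 5 := R149.orderOf (by decide +kernel) (by decide +kernel)

theorem com_ac : ea * ec = ec * ea := R73.comm R92 (by decide +kernel)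

theorem com_bc : eb * ec = ec * eb := R81.comm R92 (by decide +kernel)

theorem com_ab : ea * eb * ea⁻¹ * eb⁻¹ = ec :=
  R73.commutator R81 R92 (by decide +kernel)

theorem N74 : E74 ∈ Subgroup.normalizer ((Subgroup.closure {ea, eb} : Subgroup Cfsg.Spor.J4) : Set Cfsg.Spor.J4) :=
  normalises com_ab (i := 0) (j := 1) (k := 0) (i' := 1) (j' := 8) (k' := 7)
    (R74.image R73 R73 R81 R92 (by decide +kernel))
    (R74.image R81 R73 R81 R92 (by decide +kernel))

theorem N75 : E75 ∈ Subgroup.normalizer ((Subgroup.closure {ea, eb} : Subgroup Cfsg.Spor.J4) : Set Cfsg.Spor.J4) :=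
  normalises com_ab (i := 3) (j := 1) (k := 4) (i' := 1) (j' := 0) (k' := 0)
    (R75.image R73 R73 R81 R92 (by decide +kernel))
    (R75.image R81 R73 R81 R92 (by decide +kernel))

theorem N76 : E76 ∈ Subgroup.normalizer ((Subgroup.closure {ea, eb} : Subgroup Cfsg.Spor.J4) : Set Cfsg.Spor.J4) :=
  normalises com_ab (i := 3) (j := 1) (k := 4) (i' := 4) (j' := 9) (k' := 4)
    (R76.image R73 R73 R81 R92 (by decide +kernel))
    (R76.image R81 R73 R81 R92 (by decide +kernel))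

theorem N77 : E77 ∈ Subgroup.normalizer ((Subgroup.closure {ea, eb} : Subgroup Cfsg.Spor.J4) : Set Cfsg.Spor.J4) :=
  normalises com_ab (i := 9) (j := 10) (k := 10) (i' := 7) (j' := 3) (k' := 6)
    (R77.image R73 R73 R81 R92 (by decide +kernel))
    (R77.image R81 R73 R81 R92 (by decide +kernel))

theorem N78 : E78 ∈ Subgroup.normalizer ((Subgroup.closure {ea, eb} : Subgroup Cfsg.Spor.J4) : Set Cfsg.Spor.J4) :=
  normalises com_ab (i := 10) (j := 2) (k := 1) (i' := 1) (j' := 6) (k' := 8)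
    (R78.image R73 R73 R81 R92 (by decide +kernel))
    (R78.image R81 R73 R81 R92 (by decide +kernel))

theorem N79 : E79 ∈ Subgroup.normalizer ((Subgroup.closure {ea, eb} : Subgroup Cfsg.Spor.J4) : Set Cfsg.Spor.J4) :=
  normalises com_ab (i := 1) (j := 9) (k := 1) (i' := 10) (j' := 5) (k' := 8)
    (R79.image R73 R73 R81 R92 (by decide +kernel))
    (R79.image R81 R73 R81 R92 (by decide +kernel))

theorem N0 : E0 ∈ Subgroup.normalizer ((Subgroup.closure {ea, eb} : Subgroup Cfsg.Spor.J4) : Set Cfsg.Spor.J4) := by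
  rw [E0, wval_nil]; exact one_mem _

theorem N93 : E93 ∈ Subgroup.normalizer ((Subgroup.closure {ea, eb} : Subgroup Cfsg.Spor.J4) : Set Cfsg.Spor.J4) :=
  mul_mem N74 N74

theorem N94 : E94 ∈ Subgroup.normalizer ((Subgroup.closure {ea, eb} : Subgroup Cfsg.Spor.J4) : Set Cfsg.Spor.J4) :=
  mul_mem N76 N74

theorem N95 : E95 ∈ Subgroup.normalizer ((Subgroup.closure {ea, eb} : Subgroup Cfsg.Spor.J4) : Set Cfsg.Spor.J4) :=
  mul_mem N77 N74

theorem N96 : E96 ∈ Subgroup.normalizer ((Subgroup.closure {ea, eb} : Subgroup Cfsg.Spor.J4) : Set Cfsg.Spor.J4) :=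
  mul_mem N78 N74

theorem N97 : E97 ∈ Subgroup.normalizer ((Subgroup.closure {ea, eb} : Subgroup Cfsg.Spor.J4) : Set Cfsg.Spor.J4) :=
  mul_mem N79 N74

theorem N98 : E98 ∈ Subgroup.normalizer ((Subgroup.closure {ea, eb} : Subgroup Cfsg.Spor.J4) : Set Cfsg.Spor.J4) :=
  mul_mem N75 N75

theorem N99 : E99 ∈ Subgroup.normalizer ((Subgroup.closure {ea, eb} : Subgroup Cfsg.Spor.J4) : Set Cfsg.Spor.J4) :=
  mul_mem N76 N75

theorem N100 : E100 ∈ Subgroup.normalizer ((Subgroup.closure {ea, eb} : Subgroup Cfsg.Spor.J4) : Set Cfsg.Spor.J4) :=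
  mul_mem N78 N75

theorem N101 : E101 ∈ Subgroup.normalizer ((Subgroup.closure {ea, eb} : Subgroup Cfsg.Spor.J4) : Set Cfsg.Spor.J4) :=
  mul_mem N79 N75

theorem N102 : E102 ∈ Subgroup.normalizer ((Subgroup.closure {ea, eb} : Subgroup Cfsg.Spor.J4) : Set Cfsg.Spor.J4) :=
  mul_mem N74 N77

theorem N103 : E103 ∈ Subgroup.normalizer ((Subgroup.closure {ea, eb} : Subgroup Cfsg.Spor.J4) : Set Cfsg.Spor.J4) :=
  mul_mem N77 N77

theorem N104 : E104 ∈ Subgroup.normalizer ((Subgroup.closure {ea, eb} : Subgroup Cfsg.Spor.J4) : Set Cfsg.Spor.J4) :=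
  mul_mem N78 N77

theorem N105 : E105 ∈ Subgroup.normalizer ((Subgroup.closure {ea, eb} : Subgroup Cfsg.Spor.J4) : Set Cfsg.Spor.J4) :=
  mul_mem N79 N77

theorem N106 : E106 ∈ Subgroup.normalizer ((Subgroup.closure {ea, eb} : Subgroup Cfsg.Spor.J4) : Set Cfsg.Spor.J4) :=
  mul_mem N74 N78

theorem N107 : E107 ∈ Subgroup.normalizer ((Subgroup.closure {ea, eb} : Subgroup Cfsg.Spor.J4) : Set Cfsg.Spor.J4) :=
  mul_mem N76 N78

theorem N108 : E108 ∈ Subgroup.normalizer ((Subgroup.closure {ea, eb} : Subgroup Cfsg.Spor.J4) : Set Cfsg.Spor.J4) :=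
  mul_mem N77 N78

theorem N109 : E109 ∈ Subgroup.normalizer ((Subgroup.closure {ea, eb} : Subgroup Cfsg.Spor.J4) : Set Cfsg.Spor.J4) :=
  mul_mem N78 N78

theorem N110 : E110 ∈ Subgroup.normalizer ((Subgroup.closure {ea, eb} : Subgroup Cfsg.Spor.J4) : Set Cfsg.Spor.J4) :=
  mul_mem N79 N78

theorem N111 : E111 ∈ Subgroup.normalizer ((Subgroup.closure {ea, eb} : Subgroup Cfsg.Spor.J4) : Set Cfsg.Spor.J4) :=
  mul_mem N74 N79

theorem N112 : E112 ∈ Subgroup.normalizer ((Subgroup.closure {ea, eb} : Subgroup Cfsg.Spor.J4) : Set Cfsg.Spor.J4) :=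
  mul_mem N76 N79

theorem N113 : E113 ∈ Subgroup.normalizer ((Subgroup.closure {ea, eb} : Subgroup Cfsg.Spor.J4) : Set Cfsg.Spor.J4) :=
  mul_mem N77 N79

theorem N114 : E114 ∈ Subgroup.normalizer ((Subgroup.closure {ea, eb} : Subgroup Cfsg.Spor.J4) : Set Cfsg.Spor.J4) :=
  mul_mem N76 N93

theorem N115 : E115 ∈ Subgroup.normalizer ((Subgroup.closure {ea, eb} : Subgroup Cfsg.Spor.J4) : Set Cfsg.Spor.J4) :=
  mul_mem N78 N93

theorem N116 : E116 ∈ Subgroup.normalizer ((Subgroup.closure {ea, eb} : Subgroup Cfsg.Spor.J4) : Set Cfsg.Spor.J4) :=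
  mul_mem N79 N93

theorem N117 : E117 ∈ Subgroup.normalizer ((Subgroup.closure {ea, eb} : Subgroup Cfsg.Spor.J4) : Set Cfsg.Spor.J4) :=
  mul_mem N75 N94

theorem N118 : E118 ∈ Subgroup.normalizer ((Subgroup.closure {ea, eb} : Subgroup Cfsg.Spor.J4) : Set Cfsg.Spor.J4) :=
  mul_mem N76 N94

theorem N119 : E119 ∈ Subgroup.normalizer ((Subgroup.closure {ea, eb} : Subgroup Cfsg.Spor.J4) : Set Cfsg.Spor.J4) :=
  mul_mem N74 N95

theorem N120 : E120 ∈ Subgroup.normalizer ((Subgroup.closure {ea, eb} : Subgroup Cfsg.Spor.J4) : Set Cfsg.Spor.J4) :=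
  mul_mem N77 N95

theorem N121 : E121 ∈ Subgroup.normalizer ((Subgroup.closure {ea, eb} : Subgroup Cfsg.Spor.J4) : Set Cfsg.Spor.J4) :=
  mul_mem N78 N95

theorem N122 : E122 ∈ Subgroup.normalizer ((Subgroup.closure {ea, eb} : Subgroup Cfsg.Spor.J4) : Set Cfsg.Spor.J4) :=
  mul_mem N79 N95

theorem N123 : E123 ∈ Subgroup.normalizer ((Subgroup.closure {ea, eb} : Subgroup Cfsg.Spor.J4) : Set Cfsg.Spor.J4) :=
  mul_mem N76 N96

theorem N124 : E124 ∈ Subgroup.normalizer ((Subgroup.closure {ea, eb} : Subgroup Cfsg.Spor.J4) : Set Cfsg.Spor.J4) :=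
  mul_mem N78 N96

theorem N125 : E125 ∈ Subgroup.normalizer ((Subgroup.closure {ea, eb} : Subgroup Cfsg.Spor.J4) : Set Cfsg.Spor.J4) :=
  mul_mem N79 N96

theorem N126 : E126 ∈ Subgroup.normalizer ((Subgroup.closure {ea, eb} : Subgroup Cfsg.Spor.J4) : Set Cfsg.Spor.J4) :=
  mul_mem N76 N97

theorem N127 : E127 ∈ Subgroup.normalizer ((Subgroup.closure {ea, eb} : Subgroup Cfsg.Spor.J4) : Set Cfsg.Spor.J4) :=
  mul_mem N75 N98

theorem N128 : E128 ∈ Subgroup.normalizer ((Subgroup.closure {ea, eb} : Subgroup Cfsg.Spor.J4) : Set Cfsg.Spor.J4) :=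
  mul_mem N76 N98

theorem N129 : E129 ∈ Subgroup.normalizer ((Subgroup.closure {ea, eb} : Subgroup Cfsg.Spor.J4) : Set Cfsg.Spor.J4) :=
  mul_mem N77 N98

theorem N130 : E130 ∈ Subgroup.normalizer ((Subgroup.closure {ea, eb} : Subgroup Cfsg.Spor.J4) : Set Cfsg.Spor.J4) :=
  mul_mem N76 N99

theorem N131 : E131 ∈ Subgroup.normalizer ((Subgroup.closure {ea, eb} : Subgroup Cfsg.Spor.J4) : Set Cfsg.Spor.J4) :=
  mul_mem N75 N100

theorem N132 : E132 ∈ Subgroup.normalizer ((Subgroup.closure {ea, eb} : Subgroup Cfsg.Spor.J4) : Set Cfsg.Spor.J4) :=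
  mul_mem N77 N100

theorem N133 : E133 ∈ Subgroup.normalizer ((Subgroup.closure {ea, eb} : Subgroup Cfsg.Spor.J4) : Set Cfsg.Spor.J4) :=
  mul_mem N78 N100

theorem N134 : E134 ∈ Subgroup.normalizer ((Subgroup.closure {ea, eb} : Subgroup Cfsg.Spor.J4) : Set Cfsg.Spor.J4) :=
  mul_mem N79 N100

theorem N135 : E135 ∈ Subgroup.normalizer ((Subgroup.closure {ea, eb} : Subgroup Cfsg.Spor.J4) : Set Cfsg.Spor.J4) :=
  mul_mem N75 N101

theorem N136 : E136 ∈ Subgroup.normalizer ((Subgroup.closure {ea, eb} : Subgroup Cfsg.Spor.J4) : Set Cfsg.Spor.J4) :=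
  mul_mem N77 N101

theorem N137 : E137 ∈ Subgroup.normalizer ((Subgroup.closure {ea, eb} : Subgroup Cfsg.Spor.J4) : Set Cfsg.Spor.J4) :=
  mul_mem N74 N102

theorem N138 : E138 ∈ Subgroup.normalizer ((Subgroup.closure {ea, eb} : Subgroup Cfsg.Spor.J4) : Set Cfsg.Spor.J4) :=
  mul_mem N78 N104

theorem N139 : E139 ∈ Subgroup.normalizer ((Subgroup.closure {ea, eb} : Subgroup Cfsg.Spor.J4) : Set Cfsg.Spor.J4) :=
  mul_mem N79 N104

theorem N140 : E140 ∈ Subgroup.normalizer ((Subgroup.closure {ea, eb} : Subgroup Cfsg.Spor.J4) : Set Cfsg.Spor.J4) :=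
  mul_mem N78 N106

theorem N141 : E141 ∈ Subgroup.normalizer ((Subgroup.closure {ea, eb} : Subgroup Cfsg.Spor.J4) : Set Cfsg.Spor.J4) :=
  mul_mem N79 N106

theorem N142 : E142 ∈ Subgroup.normalizer ((Subgroup.closure {ea, eb} : Subgroup Cfsg.Spor.J4) : Set Cfsg.Spor.J4) :=
  mul_mem N78 N107

theorem N143 : E143 ∈ Subgroup.normalizer ((Subgroup.closure {ea, eb} : Subgroup Cfsg.Spor.J4) : Set Cfsg.Spor.J4) :=
  mul_mem N79 N107

theorem N144 : E144 ∈ Subgroup.normalizer ((Subgroup.closure {ea, eb} : Subgroup Cfsg.Spor.J4) : Set Cfsg.Spor.J4) :=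
  mul_mem N78 N108

theorem N145 : E145 ∈ Subgroup.normalizer ((Subgroup.closure {ea, eb} : Subgroup Cfsg.Spor.J4) : Set Cfsg.Spor.J4) :=
  mul_mem N79 N108

theorem N146 : E146 ∈ Subgroup.normalizer ((Subgroup.closure {ea, eb} : Subgroup Cfsg.Spor.J4) : Set Cfsg.Spor.J4) :=
  mul_mem N74 N109

theorem N147 : E147 ∈ Subgroup.normalizer ((Subgroup.closure {ea, eb} : Subgroup Cfsg.Spor.J4) : Set Cfsg.Spor.J4) :=
  mul_mem N75 N109

theorem N148 : E148 ∈ Subgroup.normalizer ((Subgroup.closure {ea, eb} : Subgroup Cfsg.Spor.J4) : Set Cfsg.Spor.J4) :=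
  mul_mem N78 N109

theorem N149 : E149 ∈ Subgroup.normalizer ((Subgroup.closure {ea, eb} : Subgroup Cfsg.Spor.J4) : Set Cfsg.Spor.J4) :=
  mul_mem N79 N109

theorem N150 : E150 ∈ Subgroup.normalizer ((Subgroup.closure {ea, eb} : Subgroup Cfsg.Spor.J4) : Set Cfsg.Spor.J4) :=
  mul_mem N74 N110

theorem N151 : E151 ∈ Subgroup.normalizer ((Subgroup.closure {ea, eb} : Subgroup Cfsg.Spor.J4) : Set Cfsg.Spor.J4) :=
  mul_mem N75 N110

theorem N152 : E152 ∈ Subgroup.normalizer ((Subgroup.closure {ea, eb} : Subgroup Cfsg.Spor.J4) : Set Cfsg.Spor.J4) :=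
  mul_mem N75 N114

theorem N153 : E153 ∈ Subgroup.normalizer ((Subgroup.closure {ea, eb} : Subgroup Cfsg.Spor.J4) : Set Cfsg.Spor.J4) :=
  mul_mem N77 N117

theorem N154 : E154 ∈ Subgroup.normalizer ((Subgroup.closure {ea, eb} : Subgroup Cfsg.Spor.J4) : Set Cfsg.Spor.J4) :=
  mul_mem N74 N119

theorem N155 : E155 ∈ Subgroup.normalizer ((Subgroup.closure {ea, eb} : Subgroup Cfsg.Spor.J4) : Set Cfsg.Spor.J4) :=
  mul_mem N78 N123

theorem N156 : E156 ∈ Subgroup.normalizer ((Subgroup.closure {ea, eb} : Subgroup Cfsg.Spor.J4) : Set Cfsg.Spor.J4) :=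
  mul_mem N79 N123

theorem N157 : E157 ∈ Subgroup.normalizer ((Subgroup.closure {ea, eb} : Subgroup Cfsg.Spor.J4) : Set Cfsg.Spor.J4) :=
  mul_mem N78 N124

theorem N158 : E158 ∈ Subgroup.normalizer ((Subgroup.closure {ea, eb} : Subgroup Cfsg.Spor.J4) : Set Cfsg.Spor.J4) :=
  mul_mem N79 N124

theorem N159 : E159 ∈ Subgroup.normalizer ((Subgroup.closure {ea, eb} : Subgroup Cfsg.Spor.J4) : Set Cfsg.Spor.J4) :=
  mul_mem N78 N131

theorem N160 : E160 ∈ Subgroup.normalizer ((Subgroup.closure {ea, eb} : Subgroup Cfsg.Spor.J4) : Set Cfsg.Spor.J4) :=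
  mul_mem N79 N131

theorem N161 : E161 ∈ Subgroup.normalizer ((Subgroup.closure {ea, eb} : Subgroup Cfsg.Spor.J4) : Set Cfsg.Spor.J4) :=
  mul_mem N78 N132

theorem N162 : E162 ∈ Subgroup.normalizer ((Subgroup.closure {ea, eb} : Subgroup Cfsg.Spor.J4) : Set Cfsg.Spor.J4) :=
  mul_mem N79 N132

theorem N163 : E163 ∈ Subgroup.normalizer ((Subgroup.closure {ea, eb} : Subgroup Cfsg.Spor.J4) : Set Cfsg.Spor.J4) :=
  mul_mem N78 N133

theorem N164 : E164 ∈ Subgroup.normalizer ((Subgroup.closure {ea, eb} : Subgroup Cfsg.Spor.J4) : Set Cfsg.Spor.J4) :=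
  mul_mem N79 N133

theorem N165 : E165 ∈ Subgroup.normalizer ((Subgroup.closure {ea, eb} : Subgroup Cfsg.Spor.J4) : Set Cfsg.Spor.J4) :=
  mul_mem N78 N138

theorem N166 : E166 ∈ Subgroup.normalizer ((Subgroup.closure {ea, eb} : Subgroup Cfsg.Spor.J4) : Set Cfsg.Spor.J4) :=
  mul_mem N79 N138

theorem N167 : E167 ∈ Subgroup.normalizer ((Subgroup.closure {ea, eb} : Subgroup Cfsg.Spor.J4) : Set Cfsg.Spor.J4) :=
  mul_mem N78 N140

theorem N168 : E168 ∈ Subgroup.normalizer ((Subgroup.closure {ea, eb} : Subgroup Cfsg.Spor.J4) : Set Cfsg.Spor.J4) :=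
  mul_mem N79 N140

theorem N169 : E169 ∈ Subgroup.normalizer ((Subgroup.closure {ea, eb} : Subgroup Cfsg.Spor.J4) : Set Cfsg.Spor.J4) :=
  mul_mem N78 N142

theorem N170 : E170 ∈ Subgroup.normalizer ((Subgroup.closure {ea, eb} : Subgroup Cfsg.Spor.J4) : Set Cfsg.Spor.J4) :=
  mul_mem N79 N142

theorem N171 : E171 ∈ Subgroup.normalizer ((Subgroup.closure {ea, eb} : Subgroup Cfsg.Spor.J4) : Set Cfsg.Spor.J4) :=
  mul_mem N78 N144

theorem N172 : E172 ∈ Subgroup.normalizer ((Subgroup.closure {ea, eb} : Subgroup Cfsg.Spor.J4) : Set Cfsg.Spor.J4) :=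
  mul_mem N79 N144

theorem N173 : E173 ∈ Subgroup.normalizer ((Subgroup.closure {ea, eb} : Subgroup Cfsg.Spor.J4) : Set Cfsg.Spor.J4) :=
  mul_mem N78 N146

theorem N174 : E174 ∈ Subgroup.normalizer ((Subgroup.closure {ea, eb} : Subgroup Cfsg.Spor.J4) : Set Cfsg.Spor.J4) :=
  mul_mem N79 N146

theorem N175 : E175 ∈ Subgroup.normalizer ((Subgroup.closure {ea, eb} : Subgroup Cfsg.Spor.J4) : Set Cfsg.Spor.J4) :=
  mul_mem N78 N147

theorem N176 : E176 ∈ Subgroup.normalizer ((Subgroup.closure {ea, eb} : Subgroup Cfsg.Spor.J4) : Set Cfsg.Spor.J4) :=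
  mul_mem N79 N147

theorem N177 : E177 ∈ Subgroup.normalizer ((Subgroup.closure {ea, eb} : Subgroup Cfsg.Spor.J4) : Set Cfsg.Spor.J4) :=
  mul_mem N78 N148

theorem N178 : E178 ∈ Subgroup.normalizer ((Subgroup.closure {ea, eb} : Subgroup Cfsg.Spor.J4) : Set Cfsg.Spor.J4) :=
  mul_mem N79 N148

theorem N179 : E179 ∈ Subgroup.normalizer ((Subgroup.closure {ea, eb} : Subgroup Cfsg.Spor.J4) : Set Cfsg.Spor.J4) :=
  mul_mem N78 N155

theorem N180 : E180 ∈ Subgroup.normalizer ((Subgroup.closure {ea, eb} : Subgroup Cfsg.Spor.J4) : Set Cfsg.Spor.J4) :=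
  mul_mem N79 N155

theorem N181 : E181 ∈ Subgroup.normalizer ((Subgroup.closure {ea, eb} : Subgroup Cfsg.Spor.J4) : Set Cfsg.Spor.J4) :=
  mul_mem N78 N157

theorem N182 : E182 ∈ Subgroup.normalizer ((Subgroup.closure {ea, eb} : Subgroup Cfsg.Spor.J4) : Set Cfsg.Spor.J4) :=
  mul_mem N79 N157

theorem N183 : E183 ∈ Subgroup.normalizer ((Subgroup.closure {ea, eb} : Subgroup Cfsg.Spor.J4) : Set Cfsg.Spor.J4) :=
  mul_mem N78 N159

theorem N184 : E184 ∈ Subgroup.normalizer ((Subgroup.closure {ea, eb} : Subgroup Cfsg.Spor.J4) : Set Cfsg.Spor.J4) :=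
  mul_mem N79 N159

theorem N185 : E185 ∈ Subgroup.normalizer ((Subgroup.closure {ea, eb} : Subgroup Cfsg.Spor.J4) : Set Cfsg.Spor.J4) :=
  mul_mem N78 N161

theorem N186 : E186 ∈ Subgroup.normalizer ((Subgroup.closure {ea, eb} : Subgroup Cfsg.Spor.J4) : Set Cfsg.Spor.J4) :=
  mul_mem N79 N161

theorem N187 : E187 ∈ Subgroup.normalizer ((Subgroup.closure {ea, eb} : Subgroup Cfsg.Spor.J4) : Set Cfsg.Spor.J4) :=
  mul_mem N78 N163

theorem N188 : E188 ∈ Subgroup.normalizer ((Subgroup.closure {ea, eb} : Subgroup Cfsg.Spor.J4) : Set Cfsg.Spor.J4) :=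
  mul_mem N79 N163

theorem N189 : E189 ∈ Subgroup.normalizer ((Subgroup.closure {ea, eb} : Subgroup Cfsg.Spor.J4) : Set Cfsg.Spor.J4) :=
  mul_mem N78 N165

theorem N190 : E190 ∈ Subgroup.normalizer ((Subgroup.closure {ea, eb} : Subgroup Cfsg.Spor.J4) : Set Cfsg.Spor.J4) :=
  mul_mem N79 N165

theorem N191 : E191 ∈ Subgroup.normalizer ((Subgroup.closure {ea, eb} : Subgroup Cfsg.Spor.J4) : Set Cfsg.Spor.J4) :=
  mul_mem N78 N167

theorem N192 : E192 ∈ Subgroup.normalizer ((Subgroup.closure {ea, eb} : Subgroup Cfsg.Spor.J4) : Set Cfsg.Spor.J4) :=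
  mul_mem N79 N167

theorem N193 : E193 ∈ Subgroup.normalizer ((Subgroup.closure {ea, eb} : Subgroup Cfsg.Spor.J4) : Set Cfsg.Spor.J4) :=
  mul_mem N78 N169

theorem N194 : E194 ∈ Subgroup.normalizer ((Subgroup.closure {ea, eb} : Subgroup Cfsg.Spor.J4) : Set Cfsg.Spor.J4) :=
  mul_mem N79 N169

theorem N195 : E195 ∈ Subgroup.normalizer ((Subgroup.closure {ea, eb} : Subgroup Cfsg.Spor.J4) : Set Cfsg.Spor.J4) :=
  mul_mem N78 N171

theorem N196 : E196 ∈ Subgroup.normalizer ((Subgroup.closure {ea, eb} : Subgroup Cfsg.Spor.J4) : Set Cfsg.Spor.J4) :=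
  mul_mem N79 N171

theorem N197 : E197 ∈ Subgroup.normalizer ((Subgroup.closure {ea, eb} : Subgroup Cfsg.Spor.J4) : Set Cfsg.Spor.J4) :=
  mul_mem N78 N173

theorem N198 : E198 ∈ Subgroup.normalizer ((Subgroup.closure {ea, eb} : Subgroup Cfsg.Spor.J4) : Set Cfsg.Spor.J4) :=
  mul_mem N79 N173

theorem N199 : E199 ∈ Subgroup.normalizer ((Subgroup.closure {ea, eb} : Subgroup Cfsg.Spor.J4) : Set Cfsg.Spor.J4) :=
  mul_mem N78 N175

theorem N200 : E200 ∈ Subgroup.normalizer ((Subgroup.closure {ea, eb} : Subgroup Cfsg.Spor.J4) : Set Cfsg.Spor.J4) :=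
  mul_mem N79 N175

theorem N201 : E201 ∈ Subgroup.normalizer ((Subgroup.closure {ea, eb} : Subgroup Cfsg.Spor.J4) : Set Cfsg.Spor.J4) :=
  mul_mem N78 N179

theorem N202 : E202 ∈ Subgroup.normalizer ((Subgroup.closure {ea, eb} : Subgroup Cfsg.Spor.J4) : Set Cfsg.Spor.J4) :=
  mul_mem N79 N179

theorem N203 : E203 ∈ Subgroup.normalizer ((Subgroup.closure {ea, eb} : Subgroup Cfsg.Spor.J4) : Set Cfsg.Spor.J4) :=
  mul_mem N78 N183

theorem N204 : E204 ∈ Subgroup.normalizer ((Subgroup.closure {ea, eb} : Subgroup Cfsg.Spor.J4) : Set Cfsg.Spor.J4) :=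
  mul_mem N79 N183

theorem N205 : E205 ∈ Subgroup.normalizer ((Subgroup.closure {ea, eb} : Subgroup Cfsg.Spor.J4) : Set Cfsg.Spor.J4) :=
  mul_mem N78 N185

theorem N206 : E206 ∈ Subgroup.normalizer ((Subgroup.closure {ea, eb} : Subgroup Cfsg.Spor.J4) : Set Cfsg.Spor.J4) :=
  mul_mem N79 N185

theorem N207 : E207 ∈ Subgroup.normalizer ((Subgroup.closure {ea, eb} : Subgroup Cfsg.Spor.J4) : Set Cfsg.Spor.J4) :=
  mul_mem N78 N190

theorem N208 : E208 ∈ Subgroup.normalizer ((Subgroup.closure {ea, eb} : Subgroup Cfsg.Spor.J4) : Set Cfsg.Spor.J4) :=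
  mul_mem N74 N207

theorem N209 : E209 ∈ Subgroup.normalizer ((Subgroup.closure {ea, eb} : Subgroup Cfsg.Spor.J4) : Set Cfsg.Spor.J4) :=
  mul_mem N207 N74

theorem N210 : E210 ∈ Subgroup.normalizer ((Subgroup.closure {ea, eb} : Subgroup Cfsg.Spor.J4) : Set Cfsg.Spor.J4) :=
  mul_mem N207 N207

theorem N211 : E211 ∈ Subgroup.normalizer ((Subgroup.closure {ea, eb} : Subgroup Cfsg.Spor.J4) : Set Cfsg.Spor.J4) :=
  mul_mem N93 N74

theorem N212 : E212 ∈ Subgroup.normalizer ((Subgroup.closure {ea, eb} : Subgroup Cfsg.Spor.J4) : Set Cfsg.Spor.J4) :=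
  mul_mem N93 N207

theorem N213 : E213 ∈ Subgroup.normalizer ((Subgroup.closure {ea, eb} : Subgroup Cfsg.Spor.J4) : Set Cfsg.Spor.J4) :=
  mul_mem N208 N74

theorem N214 : E214 ∈ Subgroup.normalizer ((Subgroup.closure {ea, eb} : Subgroup Cfsg.Spor.J4) : Set Cfsg.Spor.J4) :=
  mul_mem N208 N207

theorem N215 : E215 ∈ Subgroup.normalizer ((Subgroup.closure {ea, eb} : Subgroup Cfsg.Spor.J4) : Set Cfsg.Spor.J4) :=
  mul_mem N209 N74

theorem N216 : E216 ∈ Subgroup.normalizer ((Subgroup.closure {ea, eb} : Subgroup Cfsg.Spor.J4) : Set Cfsg.Spor.J4) :=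
  mul_mem N209 N207

theorem N217 : E217 ∈ Subgroup.normalizer ((Subgroup.closure {ea, eb} : Subgroup Cfsg.Spor.J4) : Set Cfsg.Spor.J4) :=
  mul_mem N210 N74

theorem N2 : E2 ∈ Subgroup.normalizer ((Subgroup.closure {ea, eb} : Subgroup Cfsg.Spor.J4) : Set Cfsg.Spor.J4) :=
  normalises com_ab (i := 10) (j := 0) (k := 0) (i' := 0) (j' := 10) (k' := 0)
    (R2.image R73 R73 R81 R92 (by decide +kernel))
    (R2.image R81 R73 R81 R92 (by decide +kernel))

theorem N218 : E218 ∈ Subgroup.normalizer ((Subgroup.closure {ea, eb} : Subgroup Cfsg.Spor.J4) : Set Cfsg.Spor.J4) :=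
  mul_mem N211 N207

theorem N219 : E219 ∈ Subgroup.normalizer ((Subgroup.closure {ea, eb} : Subgroup Cfsg.Spor.J4) : Set Cfsg.Spor.J4) :=
  mul_mem N212 N74

theorem N220 : E220 ∈ Subgroup.normalizer ((Subgroup.closure {ea, eb} : Subgroup Cfsg.Spor.J4) : Set Cfsg.Spor.J4) :=
  mul_mem N212 N207

theorem N221 : E221 ∈ Subgroup.normalizer ((Subgroup.closure {ea, eb} : Subgroup Cfsg.Spor.J4) : Set Cfsg.Spor.J4) :=
  mul_mem N213 N74

theorem N222 : E222 ∈ Subgroup.normalizer ((Subgroup.closure {ea, eb} : Subgroup Cfsg.Spor.J4) : Set Cfsg.Spor.J4) :=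
  mul_mem N213 N207

theorem N223 : E223 ∈ Subgroup.normalizer ((Subgroup.closure {ea, eb} : Subgroup Cfsg.Spor.J4) : Set Cfsg.Spor.J4) :=
  mul_mem N215 N74

theorem N224 : E224 ∈ Subgroup.normalizer ((Subgroup.closure {ea, eb} : Subgroup Cfsg.Spor.J4) : Set Cfsg.Spor.J4) :=
  mul_mem N215 N207

theorem N225 : E225 ∈ Subgroup.normalizer ((Subgroup.closure {ea, eb} : Subgroup Cfsg.Spor.J4) : Set Cfsg.Spor.J4) :=
  mul_mem N216 N74

theorem N226 : E226 ∈ Subgroup.normalizer ((Subgroup.closure {ea, eb} : Subgroup Cfsg.Spor.J4) : Set Cfsg.Spor.J4) :=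
  mul_mem N216 N207

theorem N227 : E227 ∈ Subgroup.normalizer ((Subgroup.closure {ea, eb} : Subgroup Cfsg.Spor.J4) : Set Cfsg.Spor.J4) :=
  mul_mem N217 N74

theorem N228 : E228 ∈ Subgroup.normalizer ((Subgroup.closure {ea, eb} : Subgroup Cfsg.Spor.J4) : Set Cfsg.Spor.J4) :=
  mul_mem N217 N207

theorem N229 : E229 ∈ Subgroup.normalizer ((Subgroup.closure {ea, eb} : Subgroup Cfsg.Spor.J4) : Set Cfsg.Spor.J4) :=
  mul_mem N2 N207

theorem N230 : E230 ∈ Subgroup.normalizer ((Subgroup.closure {ea, eb} : Subgroup Cfsg.Spor.J4) : Set Cfsg.Spor.J4) :=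
  mul_mem N218 N74

theorem N231 : E231 ∈ Subgroup.normalizer ((Subgroup.closure {ea, eb} : Subgroup Cfsg.Spor.J4) : Set Cfsg.Spor.J4) :=
  mul_mem N218 N207

theorem N232 : E232 ∈ Subgroup.normalizer ((Subgroup.closure {ea, eb} : Subgroup Cfsg.Spor.J4) : Set Cfsg.Spor.J4) :=
  mul_mem N219 N74

theorem N233 : E233 ∈ Subgroup.normalizer ((Subgroup.closure {ea, eb} : Subgroup Cfsg.Spor.J4) : Set Cfsg.Spor.J4) :=
  mul_mem N219 N207

theorem N234 : E234 ∈ Subgroup.normalizer ((Subgroup.closure {ea, eb} : Subgroup Cfsg.Spor.J4) : Set Cfsg.Spor.J4) :=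
  mul_mem N221 N74

theorem N235 : E235 ∈ Subgroup.normalizer ((Subgroup.closure {ea, eb} : Subgroup Cfsg.Spor.J4) : Set Cfsg.Spor.J4) :=
  mul_mem N221 N207

theorem N236 : E236 ∈ Subgroup.normalizer ((Subgroup.closure {ea, eb} : Subgroup Cfsg.Spor.J4) : Set Cfsg.Spor.J4) :=
  mul_mem N222 N74

theorem N237 : E237 ∈ Subgroup.normalizer ((Subgroup.closure {ea, eb} : Subgroup Cfsg.Spor.J4) : Set Cfsg.Spor.J4) :=
  mul_mem N222 N207

theorem N238 : E238 ∈ Subgroup.normalizer ((Subgroup.closure {ea, eb} : Subgroup Cfsg.Spor.J4) : Set Cfsg.Spor.J4) :=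
  mul_mem N224 N74

theorem N239 : E239 ∈ Subgroup.normalizer ((Subgroup.closure {ea, eb} : Subgroup Cfsg.Spor.J4) : Set Cfsg.Spor.J4) :=
  mul_mem N224 N207

theorem N240 : E240 ∈ Subgroup.normalizer ((Subgroup.closure {ea, eb} : Subgroup Cfsg.Spor.J4) : Set Cfsg.Spor.J4) :=
  mul_mem N225 N74

theorem N241 : E241 ∈ Subgroup.normalizer ((Subgroup.closure {ea, eb} : Subgroup Cfsg.Spor.J4) : Set Cfsg.Spor.J4) :=
  mul_mem N225 N207

theorem N242 : E242 ∈ Subgroup.normalizer ((Subgroup.closure {ea, eb} : Subgroup Cfsg.Spor.J4) : Set Cfsg.Spor.J4) :=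
  mul_mem N227 N74

theorem N243 : E243 ∈ Subgroup.normalizer ((Subgroup.closure {ea, eb} : Subgroup Cfsg.Spor.J4) : Set Cfsg.Spor.J4) :=
  mul_mem N227 N207

theorem N244 : E244 ∈ Subgroup.normalizer ((Subgroup.closure {ea, eb} : Subgroup Cfsg.Spor.J4) : Set Cfsg.Spor.J4) :=
  mul_mem N228 N74

theorem N245 : E245 ∈ Subgroup.normalizer ((Subgroup.closure {ea, eb} : Subgroup Cfsg.Spor.J4) : Set Cfsg.Spor.J4) :=
  mul_mem N127 N207

theorem N246 : E246 ∈ Subgroup.normalizer ((Subgroup.closure {ea, eb} : Subgroup Cfsg.Spor.J4) : Set Cfsg.Spor.J4) :=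
  mul_mem N229 N74

theorem N247 : E247 ∈ Subgroup.normalizer ((Subgroup.closure {ea, eb} : Subgroup Cfsg.Spor.J4) : Set Cfsg.Spor.J4) :=
  mul_mem N229 N207

theorem tr_0_1 : E74 * ea * E74⁻¹ = ea ^ 0 * eb ^ 1 * ec ^ 0 :=
  R74.image R73 R73 R81 R92 (by decide +kernel)

theorem tr_0_2 : E205 * ea * E205⁻¹ = ea ^ 0 * eb ^ 2 * ec ^ 0 :=
  R205.image R73 R73 R81 R92 (by decide +kernel)

theorem tr_0_3 : E139 * ea * E139⁻¹ = ea ^ 0 * eb ^ 3 * ec ^ 0 :=
  R139.image R73 R73 R81 R92 (by decide +kernel)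

theorem tr_0_4 : E158 * ea * E158⁻¹ = ea ^ 0 * eb ^ 4 * ec ^ 0 :=
  R158.image R73 R73 R81 R92 (by decide +kernel)

theorem tr_0_5 : E132 * ea * E132⁻¹ = ea ^ 0 * eb ^ 5 * ec ^ 0 :=
  R132.image R73 R73 R81 R92 (by decide +kernel)

theorem tr_0_6 : E136 * ea * E136⁻¹ = ea ^ 0 * eb ^ 6 * ec ^ 0 :=
  R136.image R73 R73 R81 R92 (by decide +kernel)

theorem tr_0_7 : E157 * ea * E157⁻¹ = ea ^ 0 * eb ^ 7 * ec ^ 0 :=
  R157.image R73 R73 R81 R92 (by decide +kernel)

theorem tr_0_8 : E138 * ea * E138⁻¹ = ea ^ 0 * eb ^ 8 * ec ^ 0 :=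
  R138.image R73 R73 R81 R92 (by decide +kernel)

theorem tr_0_9 : E206 * ea * E206⁻¹ = ea ^ 0 * eb ^ 9 * ec ^ 0 :=
  R206.image R73 R73 R81 R92 (by decide +kernel)

theorem tr_0_10 : E127 * ea * E127⁻¹ = ea ^ 0 * eb ^ 10 * ec ^ 0 :=
  R127.image R73 R73 R81 R92 (by decide +kernel)

theorem tr_1_0 : E0 * ea * E0⁻¹ = ea ^ 1 * eb ^ 0 * ec ^ 0 :=
  R0.image R73 R73 R81 R92 (by decide +kernel)

theorem tr_1_1 : E104 * ea * E104⁻¹ = ea ^ 1 * eb ^ 1 * ec ^ 5 :=
  R104.image R73 R73 R81 R92 (by decide +kernel)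

theorem tr_1_2 : E142 * ea * E142⁻¹ = ea ^ 1 * eb ^ 2 * ec ^ 10 :=
  R142.image R73 R73 R81 R92 (by decide +kernel)

theorem tr_1_3 : E169 * ea * E169⁻¹ = ea ^ 1 * eb ^ 3 * ec ^ 4 :=
  R169.image R73 R73 R81 R92 (by decide +kernel)

theorem tr_1_4 : E164 * ea * E164⁻¹ = ea ^ 1 * eb ^ 4 * ec ^ 9 :=
  R164.image R73 R73 R81 R92 (by decide +kernel)

theorem tr_1_5 : E150 * ea * E150⁻¹ = ea ^ 1 * eb ^ 5 * ec ^ 3 :=
  R150.image R73 R73 R81 R92 (by decide +kernel)

theorem tr_1_6 : E96 * ea * E96⁻¹ = ea ^ 1 * eb ^ 6 * ec ^ 8 :=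
  R96.image R73 R73 R81 R92 (by decide +kernel)

theorem tr_1_7 : E137 * ea * E137⁻¹ = ea ^ 1 * eb ^ 7 * ec ^ 2 :=
  R137.image R73 R73 R81 R92 (by decide +kernel)

theorem tr_1_8 : E93 * ea * E93⁻¹ = ea ^ 1 * eb ^ 8 * ec ^ 7 :=
  R93.image R73 R73 R81 R92 (by decide +kernel)

theorem tr_1_9 : E79 * ea * E79⁻¹ = ea ^ 1 * eb ^ 9 * ec ^ 1 :=
  R79.image R73 R73 R81 R92 (by decide +kernel)

theorem tr_1_10 : E129 * ea * E129⁻¹ = ea ^ 1 * eb ^ 10 * ec ^ 6 :=
  R129.image R73 R73 R81 R92 (by decide +kernel)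

theorem tr_2_0 : E201 * ea * E201⁻¹ = ea ^ 2 * eb ^ 0 * ec ^ 0 :=
  R201.image R73 R73 R81 R92 (by decide +kernel)

theorem tr_2_1 : E99 * ea * E99⁻¹ = ea ^ 2 * eb ^ 1 * ec ^ 10 :=
  R99.image R73 R73 R81 R92 (by decide +kernel)

theorem tr_2_2 : E152 * ea * E152⁻¹ = ea ^ 2 * eb ^ 2 * ec ^ 9 :=
  R152.image R73 R73 R81 R92 (by decide +kernel)

theorem tr_2_3 : E204 * ea * E204⁻¹ = ea ^ 2 * eb ^ 3 * ec ^ 8 :=
  R204.image R73 R73 R81 R92 (by decide +kernel)

theorem tr_2_4 : E106 * ea * E106⁻¹ = ea ^ 2 * eb ^ 4 * ec ^ 7 :=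
  R106.image R73 R73 R81 R92 (by decide +kernel)

theorem tr_2_5 : E195 * ea * E195⁻¹ = ea ^ 2 * eb ^ 5 * ec ^ 6 :=
  R195.image R73 R73 R81 R92 (by decide +kernel)

theorem tr_2_6 : E140 * ea * E140⁻¹ = ea ^ 2 * eb ^ 6 * ec ^ 5 :=
  R140.image R73 R73 R81 R92 (by decide +kernel)

theorem tr_2_7 : E114 * ea * E114⁻¹ = ea ^ 2 * eb ^ 7 * ec ^ 4 :=
  R114.image R73 R73 R81 R92 (by decide +kernel)

theorem tr_2_8 : E144 * ea * E144⁻¹ = ea ^ 2 * eb ^ 8 * ec ^ 3 :=
  R144.image R73 R73 R81 R92 (by decide +kernel)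

theorem tr_2_9 : E193 * ea * E193⁻¹ = ea ^ 2 * eb ^ 9 * ec ^ 2 :=
  R193.image R73 R73 R81 R92 (by decide +kernel)

theorem tr_2_10 : E101 * ea * E101⁻¹ = ea ^ 2 * eb ^ 10 * ec ^ 1 :=
  R101.image R73 R73 R81 R92 (by decide +kernel)

theorem tr_3_0 : E159 * ea * E159⁻¹ = ea ^ 3 * eb ^ 0 * ec ^ 0 :=
  R159.image R73 R73 R81 R92 (by decide +kernel)

theorem tr_3_1 : E75 * ea * E75⁻¹ = ea ^ 3 * eb ^ 1 * ec ^ 4 :=
  R75.image R73 R73 R81 R92 (by decide +kernel)

theorem tr_3_2 : E133 * ea * E133⁻¹ = ea ^ 3 * eb ^ 2 * ec ^ 8 :=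
  R133.image R73 R73 R81 R92 (by decide +kernel)

theorem tr_3_3 : E185 * ea * E185⁻¹ = ea ^ 3 * eb ^ 3 * ec ^ 1 :=
  R185.image R73 R73 R81 R92 (by decide +kernel)

theorem tr_3_4 : E188 * ea * E188⁻¹ = ea ^ 3 * eb ^ 4 * ec ^ 5 :=
  R188.image R73 R73 R81 R92 (by decide +kernel)

theorem tr_3_5 : E184 * ea * E184⁻¹ = ea ^ 3 * eb ^ 5 * ec ^ 9 :=
  R184.image R73 R73 R81 R92 (by decide +kernel)

theorem tr_3_6 : E191 * ea * E191⁻¹ = ea ^ 3 * eb ^ 6 * ec ^ 2 :=
  R191.image R73 R73 R81 R92 (by decide +kernel)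

theorem tr_3_7 : E166 * ea * E166⁻¹ = ea ^ 3 * eb ^ 7 * ec ^ 6 :=
  R166.image R73 R73 R81 R92 (by decide +kernel)

theorem tr_3_8 : E151 * ea * E151⁻¹ = ea ^ 3 * eb ^ 8 * ec ^ 10 :=
  R151.image R73 R73 R81 R92 (by decide +kernel)

theorem tr_3_9 : E119 * ea * E119⁻¹ = ea ^ 3 * eb ^ 9 * ec ^ 3 :=
  R119.image R73 R73 R81 R92 (by decide +kernel)

theorem tr_3_10 : E109 * ea * E109⁻¹ = ea ^ 3 * eb ^ 10 * ec ^ 7 :=
  R109.image R73 R73 R81 R92 (by decide +kernel)

theorem tr_4_0 : E149 * ea * E149⁻¹ = ea ^ 4 * eb ^ 0 * ec ^ 0 :=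
  R149.image R73 R73 R81 R92 (by decide +kernel)

theorem tr_4_1 : E122 * ea * E122⁻¹ = ea ^ 4 * eb ^ 1 * ec ^ 9 :=
  R122.image R73 R73 R81 R92 (by decide +kernel)

theorem tr_4_2 : E182 * ea * E182⁻¹ = ea ^ 4 * eb ^ 2 * ec ^ 7 :=
  R182.image R73 R73 R81 R92 (by decide +kernel)

theorem tr_4_3 : E177 * ea * E177⁻¹ = ea ^ 4 * eb ^ 3 * ec ^ 5 :=
  R177.image R73 R73 R81 R92 (by decide +kernel)

theorem tr_4_4 : E190 * ea * E190⁻¹ = ea ^ 4 * eb ^ 4 * ec ^ 3 :=
  R190.image R73 R73 R81 R92 (by decide +kernel)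

theorem tr_4_5 : E116 * ea * E116⁻¹ = ea ^ 4 * eb ^ 5 * ec ^ 1 :=
  R116.image R73 R73 R81 R92 (by decide +kernel)

theorem tr_4_6 : E179 * ea * E179⁻¹ = ea ^ 4 * eb ^ 6 * ec ^ 10 :=
  R179.image R73 R73 R81 R92 (by decide +kernel)

theorem tr_4_7 : E167 * ea * E167⁻¹ = ea ^ 4 * eb ^ 7 * ec ^ 8 :=
  R167.image R73 R73 R81 R92 (by decide +kernel)

theorem tr_4_8 : E118 * ea * E118⁻¹ = ea ^ 4 * eb ^ 8 * ec ^ 6 :=
  R118.image R73 R73 R81 R92 (by decide +kernel)

theorem tr_4_9 : E94 * ea * E94⁻¹ = ea ^ 4 * eb ^ 9 * ec ^ 4 :=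
  R94.image R73 R73 R81 R92 (by decide +kernel)

theorem tr_4_10 : E174 * ea * E174⁻¹ = ea ^ 4 * eb ^ 10 * ec ^ 2 :=
  R174.image R73 R73 R81 R92 (by decide +kernel)

theorem tr_5_0 : E123 * ea * E123⁻¹ = ea ^ 5 * eb ^ 0 * ec ^ 0 :=
  R123.image R73 R73 R81 R92 (by decide +kernel)

theorem tr_5_1 : E156 * ea * E156⁻¹ = ea ^ 5 * eb ^ 1 * ec ^ 3 :=
  R156.image R73 R73 R81 R92 (by decide +kernel)

theorem tr_5_2 : E135 * ea * E135⁻¹ = ea ^ 5 * eb ^ 2 * ec ^ 6 :=
  R135.image R73 R73 R81 R92 (by decide +kernel)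

theorem tr_5_3 : E172 * ea * E172⁻¹ = ea ^ 5 * eb ^ 3 * ec ^ 9 :=
  R172.image R73 R73 R81 R92 (by decide +kernel)

theorem tr_5_4 : E200 * ea * E200⁻¹ = ea ^ 5 * eb ^ 4 * ec ^ 1 :=
  R200.image R73 R73 R81 R92 (by decide +kernel)

theorem tr_5_5 : E124 * ea * E124⁻¹ = ea ^ 5 * eb ^ 5 * ec ^ 4 :=
  R124.image R73 R73 R81 R92 (by decide +kernel)

theorem tr_5_6 : E107 * ea * E107⁻¹ = ea ^ 5 * eb ^ 6 * ec ^ 7 :=
  R107.image R73 R73 R81 R92 (by decide +kernel)

theorem tr_5_7 : E108 * ea * E108⁻¹ = ea ^ 5 * eb ^ 7 * ec ^ 10 :=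
  R108.image R73 R73 R81 R92 (by decide +kernel)

theorem tr_5_8 : E161 * ea * E161⁻¹ = ea ^ 5 * eb ^ 8 * ec ^ 2 :=
  R161.image R73 R73 R81 R92 (by decide +kernel)

theorem tr_5_9 : E197 * ea * E197⁻¹ = ea ^ 5 * eb ^ 9 * ec ^ 5 :=
  R197.image R73 R73 R81 R92 (by decide +kernel)

theorem tr_5_10 : E176 * ea * E176⁻¹ = ea ^ 5 * eb ^ 10 * ec ^ 8 :=
  R176.image R73 R73 R81 R92 (by decide +kernel)

theorem tr_6_0 : E126 * ea * E126⁻¹ = ea ^ 6 * eb ^ 0 * ec ^ 0 :=
  R126.image R73 R73 R81 R92 (by decide +kernel)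

theorem tr_6_1 : E175 * ea * E175⁻¹ = ea ^ 6 * eb ^ 1 * ec ^ 8 :=
  R175.image R73 R73 R81 R92 (by decide +kernel)

theorem tr_6_2 : E198 * ea * E198⁻¹ = ea ^ 6 * eb ^ 2 * ec ^ 5 :=
  R198.image R73 R73 R81 R92 (by decide +kernel)

theorem tr_6_3 : E162 * ea * E162⁻¹ = ea ^ 6 * eb ^ 3 * ec ^ 2 :=
  R162.image R73 R73 R81 R92 (by decide +kernel)

theorem tr_6_4 : E113 * ea * E113⁻¹ = ea ^ 6 * eb ^ 4 * ec ^ 10 :=
  R113.image R73 R73 R81 R92 (by decide +kernel)

theorem tr_6_5 : E112 * ea * E112⁻¹ = ea ^ 6 * eb ^ 5 * ec ^ 7 :=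
  R112.image R73 R73 R81 R92 (by decide +kernel)

theorem tr_6_6 : E125 * ea * E125⁻¹ = ea ^ 6 * eb ^ 6 * ec ^ 4 :=
  R125.image R73 R73 R81 R92 (by decide +kernel)

theorem tr_6_7 : E199 * ea * E199⁻¹ = ea ^ 6 * eb ^ 7 * ec ^ 1 :=
  R199.image R73 R73 R81 R92 (by decide +kernel)

theorem tr_6_8 : E171 * ea * E171⁻¹ = ea ^ 6 * eb ^ 8 * ec ^ 9 :=
  R171.image R73 R73 R81 R92 (by decide +kernel)

theorem tr_6_9 : E131 * ea * E131⁻¹ = ea ^ 6 * eb ^ 9 * ec ^ 6 :=
  R131.image R73 R73 R81 R92 (by decide +kernel)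

theorem tr_6_10 : E155 * ea * E155⁻¹ = ea ^ 6 * eb ^ 10 * ec ^ 3 :=
  R155.image R73 R73 R81 R92 (by decide +kernel)

theorem tr_7_0 : E148 * ea * E148⁻¹ = ea ^ 7 * eb ^ 0 * ec ^ 0 :=
  R148.image R73 R73 R81 R92 (by decide +kernel)

theorem tr_7_1 : E173 * ea * E173⁻¹ = ea ^ 7 * eb ^ 1 * ec ^ 2 :=
  R173.image R73 R73 R81 R92 (by decide +kernel)

theorem tr_7_2 : E120 * ea * E120⁻¹ = ea ^ 7 * eb ^ 2 * ec ^ 4 :=
  R120.image R73 R73 R81 R92 (by decide +kernel)

theorem tr_7_3 : E95 * ea * E95⁻¹ = ea ^ 7 * eb ^ 3 * ec ^ 6 :=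
  R95.image R73 R73 R81 R92 (by decide +kernel)

theorem tr_7_4 : E168 * ea * E168⁻¹ = ea ^ 7 * eb ^ 4 * ec ^ 8 :=
  R168.image R73 R73 R81 R92 (by decide +kernel)

theorem tr_7_5 : E180 * ea * E180⁻¹ = ea ^ 7 * eb ^ 5 * ec ^ 10 :=
  R180.image R73 R73 R81 R92 (by decide +kernel)

theorem tr_7_6 : E115 * ea * E115⁻¹ = ea ^ 7 * eb ^ 6 * ec ^ 1 :=
  R115.image R73 R73 R81 R92 (by decide +kernel)

theorem tr_7_7 : E189 * ea * E189⁻¹ = ea ^ 7 * eb ^ 7 * ec ^ 3 :=
  R189.image R73 R73 R81 R92 (by decide +kernel)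

theorem tr_7_8 : E178 * ea * E178⁻¹ = ea ^ 7 * eb ^ 8 * ec ^ 5 :=
  R178.image R73 R73 R81 R92 (by decide +kernel)

theorem tr_7_9 : E181 * ea * E181⁻¹ = ea ^ 7 * eb ^ 9 * ec ^ 7 :=
  R181.image R73 R73 R81 R92 (by decide +kernel)

theorem tr_7_10 : E121 * ea * E121⁻¹ = ea ^ 7 * eb ^ 10 * ec ^ 9 :=
  R121.image R73 R73 R81 R92 (by decide +kernel)

theorem tr_8_0 : E160 * ea * E160⁻¹ = ea ^ 8 * eb ^ 0 * ec ^ 0 :=
  R160.image R73 R73 R81 R92 (by decide +kernel)

theorem tr_8_1 : E110 * ea * E110⁻¹ = ea ^ 8 * eb ^ 1 * ec ^ 7 :=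
  R110.image R73 R73 R81 R92 (by decide +kernel)

theorem tr_8_2 : E153 * ea * E153⁻¹ = ea ^ 8 * eb ^ 2 * ec ^ 3 :=
  R153.image R73 R73 R81 R92 (by decide +kernel)

theorem tr_8_3 : E147 * ea * E147⁻¹ = ea ^ 8 * eb ^ 3 * ec ^ 10 :=
  R147.image R73 R73 R81 R92 (by decide +kernel)

theorem tr_8_4 : E165 * ea * E165⁻¹ = ea ^ 8 * eb ^ 4 * ec ^ 6 :=
  R165.image R73 R73 R81 R92 (by decide +kernel)

theorem tr_8_5 : E192 * ea * E192⁻¹ = ea ^ 8 * eb ^ 5 * ec ^ 2 :=
  R192.image R73 R73 R81 R92 (by decide +kernel)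

theorem tr_8_6 : E183 * ea * E183⁻¹ = ea ^ 8 * eb ^ 6 * ec ^ 9 :=
  R183.image R73 R73 R81 R92 (by decide +kernel)

theorem tr_8_7 : E187 * ea * E187⁻¹ = ea ^ 8 * eb ^ 7 * ec ^ 5 :=
  R187.image R73 R73 R81 R92 (by decide +kernel)

theorem tr_8_8 : E186 * ea * E186⁻¹ = ea ^ 8 * eb ^ 8 * ec ^ 1 :=
  R186.image R73 R73 R81 R92 (by decide +kernel)

theorem tr_8_9 : E134 * ea * E134⁻¹ = ea ^ 8 * eb ^ 9 * ec ^ 8 :=
  R134.image R73 R73 R81 R92 (by decide +kernel)

theorem tr_8_10 : E103 * ea * E103⁻¹ = ea ^ 8 * eb ^ 10 * ec ^ 4 :=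
  R103.image R73 R73 R81 R92 (by decide +kernel)

theorem tr_9_0 : E202 * ea * E202⁻¹ = ea ^ 9 * eb ^ 0 * ec ^ 0 :=
  R202.image R73 R73 R81 R92 (by decide +kernel)

theorem tr_9_1 : E100 * ea * E100⁻¹ = ea ^ 9 * eb ^ 1 * ec ^ 1 :=
  R100.image R73 R73 R81 R92 (by decide +kernel)

theorem tr_9_2 : E194 * ea * E194⁻¹ = ea ^ 9 * eb ^ 2 * ec ^ 2 :=
  R194.image R73 R73 R81 R92 (by decide +kernel)

theorem tr_9_3 : E145 * ea * E145⁻¹ = ea ^ 9 * eb ^ 3 * ec ^ 3 :=
  R145.image R73 R73 R81 R92 (by decide +kernel)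

theorem tr_9_4 : E128 * ea * E128⁻¹ = ea ^ 9 * eb ^ 4 * ec ^ 4 :=
  R128.image R73 R73 R81 R92 (by decide +kernel)

theorem tr_9_5 : E141 * ea * E141⁻¹ = ea ^ 9 * eb ^ 5 * ec ^ 5 :=
  R141.image R73 R73 R81 R92 (by decide +kernel)

theorem tr_9_6 : E196 * ea * E196⁻¹ = ea ^ 9 * eb ^ 6 * ec ^ 6 :=
  R196.image R73 R73 R81 R92 (by decide +kernel)

theorem tr_9_7 : E111 * ea * E111⁻¹ = ea ^ 9 * eb ^ 7 * ec ^ 7 :=
  R111.image R73 R73 R81 R92 (by decide +kernel)

theorem tr_9_8 : E203 * ea * E203⁻¹ = ea ^ 9 * eb ^ 8 * ec ^ 8 :=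
  R203.image R73 R73 R81 R92 (by decide +kernel)

theorem tr_9_9 : E154 * ea * E154⁻¹ = ea ^ 9 * eb ^ 9 * ec ^ 9 :=
  R154.image R73 R73 R81 R92 (by decide +kernel)

theorem tr_9_10 : E77 * ea * E77⁻¹ = ea ^ 9 * eb ^ 10 * ec ^ 10 :=
  R77.image R73 R73 R81 R92 (by decide +kernel)

theorem tr_10_0 : E130 * ea * E130⁻¹ = ea ^ 10 * eb ^ 0 * ec ^ 0 :=
  R130.image R73 R73 R81 R92 (by decide +kernel)

theorem tr_10_1 : E102 * ea * E102⁻¹ = ea ^ 10 * eb ^ 1 * ec ^ 6 :=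
  R102.image R73 R73 R81 R92 (by decide +kernel)

theorem tr_10_2 : E78 * ea * E78⁻¹ = ea ^ 10 * eb ^ 2 * ec ^ 1 :=
  R78.image R73 R73 R81 R92 (by decide +kernel)

theorem tr_10_3 : E98 * ea * E98⁻¹ = ea ^ 10 * eb ^ 3 * ec ^ 7 :=
  R98.image R73 R73 R81 R92 (by decide +kernel)

theorem tr_10_4 : E117 * ea * E117⁻¹ = ea ^ 10 * eb ^ 4 * ec ^ 2 :=
  R117.image R73 R73 R81 R92 (by decide +kernel)

theorem tr_10_5 : E97 * ea * E97⁻¹ = ea ^ 10 * eb ^ 5 * ec ^ 8 :=
  R97.image R73 R73 R81 R92 (by decide +kernel)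

theorem tr_10_6 : E146 * ea * E146⁻¹ = ea ^ 10 * eb ^ 6 * ec ^ 3 :=
  R146.image R73 R73 R81 R92 (by decide +kernel)

theorem tr_10_7 : E163 * ea * E163⁻¹ = ea ^ 10 * eb ^ 7 * ec ^ 9 :=
  R163.image R73 R73 R81 R92 (by decide +kernel)

theorem tr_10_8 : E170 * ea * E170⁻¹ = ea ^ 10 * eb ^ 8 * ec ^ 4 :=
  R170.image R73 R73 R81 R92 (by decide +kernel)

theorem tr_10_9 : E143 * ea * E143⁻¹ = ea ^ 10 * eb ^ 9 * ec ^ 10 :=
  R143.image R73 R73 R81 R92 (by decide +kernel)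

theorem tr_10_10 : E105 * ea * E105⁻¹ = ea ^ 10 * eb ^ 10 * ec ^ 5 :=
  R105.image R73 R73 R81 R92 (by decide +kernel)

theorem trans : ∀ i j : ℕ, i < 11 → j < 11 → (i ≠ 0 ∨ j ≠ 0) →
    ∃ g ∈ Subgroup.normalizer ((Subgroup.closure {ea, eb} : Subgroup Cfsg.Spor.J4) : Set Cfsg.Spor.J4),
      ∃ k : ℕ, g * ea * g⁻¹ = ea ^ i * eb ^ j * ec ^ k := by
  intro i j hi hj h
  interval_cases i <;> interval_cases j
  · exact absurd h (by simp)
  · exact ⟨E74, N74, 0, tr_0_1⟩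
  · exact ⟨E205, N205, 0, tr_0_2⟩
  · exact ⟨E139, N139, 0, tr_0_3⟩
  · exact ⟨E158, N158, 0, tr_0_4⟩
  · exact ⟨E132, N132, 0, tr_0_5⟩
  · exact ⟨E136, N136, 0, tr_0_6⟩
  · exact ⟨E157, N157, 0, tr_0_7⟩
  · exact ⟨E138, N138, 0, tr_0_8⟩
  · exact ⟨E206, N206, 0, tr_0_9⟩
  · exact ⟨E127, N127, 0, tr_0_10⟩
  · exact ⟨E0, N0, 0, tr_1_0⟩
  · exact ⟨E104, N104, 5, tr_1_1⟩
  · exact ⟨E142, N142, 10, tr_1_2⟩
  · exact ⟨E169, N169, 4, tr_1_3⟩
  · exact ⟨E164, N164, 9, tr_1_4⟩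
  · exact ⟨E150, N150, 3, tr_1_5⟩
  · exact ⟨E96, N96, 8, tr_1_6⟩
  · exact ⟨E137, N137, 2, tr_1_7⟩
  · exact ⟨E93, N93, 7, tr_1_8⟩
  · exact ⟨E79, N79, 1, tr_1_9⟩
  · exact ⟨E129, N129, 6, tr_1_10⟩
  · exact ⟨E201, N201, 0, tr_2_0⟩
  · exact ⟨E99, N99, 10, tr_2_1⟩
  · exact ⟨E152, N152, 9, tr_2_2⟩
  · exact ⟨E204, N204, 8, tr_2_3⟩
  · exact ⟨E106, N106, 7, tr_2_4⟩
  · exact ⟨E195, N195, 6, tr_2_5⟩
  · exact ⟨E140, N140, 5, tr_2_6⟩
  · exact ⟨E114, N114, 4, tr_2_7⟩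
  · exact ⟨E144, N144, 3, tr_2_8⟩
  · exact ⟨E193, N193, 2, tr_2_9⟩
  · exact ⟨E101, N101, 1, tr_2_10⟩
  · exact ⟨E159, N159, 0, tr_3_0⟩
  · exact ⟨E75, N75, 4, tr_3_1⟩
  · exact ⟨E133, N133, 8, tr_3_2⟩
  · exact ⟨E185, N185, 1, tr_3_3⟩
  · exact ⟨E188, N188, 5, tr_3_4⟩
  · exact ⟨E184, N184, 9, tr_3_5⟩
  · exact ⟨E191, N191, 2, tr_3_6⟩
  · exact ⟨E166, N166, 6, tr_3_7⟩
  · exact ⟨E151, N151, 10, tr_3_8⟩
  · exact ⟨E119, N119, 3, tr_3_9⟩
  · exact ⟨E109, N109, 7, tr_3_10⟩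
  · exact ⟨E149, N149, 0, tr_4_0⟩
  · exact ⟨E122, N122, 9, tr_4_1⟩
  · exact ⟨E182, N182, 7, tr_4_2⟩
  · exact ⟨E177, N177, 5, tr_4_3⟩
  · exact ⟨E190, N190, 3, tr_4_4⟩
  · exact ⟨E116, N116, 1, tr_4_5⟩
  · exact ⟨E179, N179, 10, tr_4_6⟩
  · exact ⟨E167, N167, 8, tr_4_7⟩
  · exact ⟨E118, N118, 6, tr_4_8⟩
  · exact ⟨E94, N94, 4, tr_4_9⟩
  · exact ⟨E174, N174, 2, tr_4_10⟩
  · exact ⟨E123, N123, 0, tr_5_0⟩
  · exact ⟨E156, N156, 3, tr_5_1⟩
  · exact ⟨E135, N135, 6, tr_5_2⟩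
  · exact ⟨E172, N172, 9, tr_5_3⟩
  · exact ⟨E200, N200, 1, tr_5_4⟩
  · exact ⟨E124, N124, 4, tr_5_5⟩
  · exact ⟨E107, N107, 7, tr_5_6⟩
  · exact ⟨E108, N108, 10, tr_5_7⟩
  · exact ⟨E161, N161, 2, tr_5_8⟩
  · exact ⟨E197, N197, 5, tr_5_9⟩
  · exact ⟨E176, N176, 8, tr_5_10⟩
  · exact ⟨E126, N126, 0, tr_6_0⟩
  · exact ⟨E175, N175, 8, tr_6_1⟩
  · exact ⟨E198, N198, 5, tr_6_2⟩
  · exact ⟨E162, N162, 2, tr_6_3⟩
  · exact ⟨E113, N113, 10, tr_6_4⟩
  · exact ⟨E112, N112, 7, tr_6_5⟩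
  · exact ⟨E125, N125, 4, tr_6_6⟩
  · exact ⟨E199, N199, 1, tr_6_7⟩
  · exact ⟨E171, N171, 9, tr_6_8⟩
  · exact ⟨E131, N131, 6, tr_6_9⟩
  · exact ⟨E155, N155, 3, tr_6_10⟩
  · exact ⟨E148, N148, 0, tr_7_0⟩
  · exact ⟨E173, N173, 2, tr_7_1⟩
  · exact ⟨E120, N120, 4, tr_7_2⟩
  · exact ⟨E95, N95, 6, tr_7_3⟩
  · exact ⟨E168, N168, 8, tr_7_4⟩
  · exact ⟨E180, N180, 10, tr_7_5⟩
  · exact ⟨E115, N115, 1, tr_7_6⟩
  · exact ⟨E189, N189, 3, tr_7_7⟩
  · exact ⟨E178, N178, 5, tr_7_8⟩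
  · exact ⟨E181, N181, 7, tr_7_9⟩
  · exact ⟨E121, N121, 9, tr_7_10⟩
  · exact ⟨E160, N160, 0, tr_8_0⟩
  · exact ⟨E110, N110, 7, tr_8_1⟩
  · exact ⟨E153, N153, 3, tr_8_2⟩
  · exact ⟨E147, N147, 10, tr_8_3⟩
  · exact ⟨E165, N165, 6, tr_8_4⟩
  · exact ⟨E192, N192, 2, tr_8_5⟩
  · exact ⟨E183, N183, 9, tr_8_6⟩
  · exact ⟨E187, N187, 5, tr_8_7⟩
  · exact ⟨E186, N186, 1, tr_8_8⟩
  · exact ⟨E134, N134, 8, tr_8_9⟩
  · exact ⟨E103, N103, 4, tr_8_10⟩
  · exact ⟨E202, N202, 0, tr_9_0⟩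
  · exact ⟨E100, N100, 1, tr_9_1⟩
  · exact ⟨E194, N194, 2, tr_9_2⟩
  · exact ⟨E145, N145, 3, tr_9_3⟩
  · exact ⟨E128, N128, 4, tr_9_4⟩
  · exact ⟨E141, N141, 5, tr_9_5⟩
  · exact ⟨E196, N196, 6, tr_9_6⟩
  · exact ⟨E111, N111, 7, tr_9_7⟩
  · exact ⟨E203, N203, 8, tr_9_8⟩
  · exact ⟨E154, N154, 9, tr_9_9⟩
  · exact ⟨E77, N77, 10, tr_9_10⟩
  · exact ⟨E130, N130, 0, tr_10_0⟩
  · exact ⟨E102, N102, 6, tr_10_1⟩
  · exact ⟨E78, N78, 1, tr_10_2⟩
  · exact ⟨E98, N98, 7, tr_10_3⟩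
  · exact ⟨E117, N117, 2, tr_10_4⟩
  · exact ⟨E97, N97, 8, tr_10_5⟩
  · exact ⟨E146, N146, 3, tr_10_6⟩
  · exact ⟨E163, N163, 9, tr_10_7⟩
  · exact ⟨E170, N170, 4, tr_10_8⟩
  · exact ⟨E143, N143, 10, tr_10_9⟩
  · exact ⟨E105, N105, 5, tr_10_10⟩

theorem c_pow : ∀ k : ℕ, k < 11 → k ≠ 0 → IsConj ec (ec ^ k) := by
  intro k hk h
  interval_cases k
  · exact absurd rfl h
  · exact isConj_iff.2 ⟨E0, R0.conj_pow R92 (by decide +kernel)⟩
  · exact isConj_iff.2 ⟨E124, R124.conj_pow R92 (by decide +kernel)⟩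
  · exact isConj_iff.2 ⟨E78, R78.conj_pow R92 (by decide +kernel)⟩
  · exact isConj_iff.2 ⟨E177, R177.conj_pow R92 (by decide +kernel)⟩
  · exact isConj_iff.2 ⟨E148, R148.conj_pow R92 (by decide +kernel)⟩
  · exact isConj_iff.2 ⟨E157, R157.conj_pow R92 (by decide +kernel)⟩
  · exact isConj_iff.2 ⟨E181, R181.conj_pow R92 (by decide +kernel)⟩
  · exact isConj_iff.2 ⟨E96, R96.conj_pow R92 (by decide +kernel)⟩
  · exact isConj_iff.2 ⟨E109, R109.conj_pow R92 (by decide +kernel)⟩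
  · exact isConj_iff.2 ⟨E74, R74.conj_pow R92 (by decide +kernel)⟩

/-- the codes of invertible matrices of degree 2 over the field of three elements -/
def codes : List ℕ :=
  [12, 13, 14, 15, 16, 17, 21, 22, 23, 24, 25, 26, 28, 29, 31, 32,
    34, 35, 37, 38, 39, 41, 42, 43, 46, 47, 48, 49, 51, 53, 55, 56,
    58, 59, 61, 62, 64, 65, 66, 67, 69, 71, 73, 74, 75, 77, 78, 79]

/-- the element with a given code -/
noncomputable def kel : ℕ → Cfsg.Spor.J4
  | 12 => E214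
  | 13 => E74
  | 14 => E208
  | 15 => E225
  | 16 => E230
  | 17 => E241
  | 21 => E243
  | 22 => E232
  | 23 => E227
  | 24 => E223
  | 25 => E245
  | 26 => E127
  | 28 => E0
  | 29 => E235
  | 31 => E220
  | 32 => E216
  | 34 => E237
  | 35 => E218
  | 37 => E207
  | 38 => E240
  | 39 => E226
  | 41 => E93
  | 42 => E213
  | 43 => E231
  | 46 => E210
  | 47 => E221
  | 48 => E212
  | 49 => E209
  | 51 => E211
  | 53 => E222
  | 55 => E219
  | 56 => E2
  | 58 => E217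
  | 59 => E215
  | 61 => E236
  | 62 => E234
  | 64 => E238
  | 65 => E247
  | 66 => E75
  | 67 => E239
  | 69 => E244
  | 71 => E246
  | 73 => E233
  | 74 => E229
  | 75 => E224
  | 77 => E228
  | 78 => E242
  | 79 => E98
  | _ => 1

/-- the matrix with a given code -/
def kmat : ℕ → ℕ
  | 12 => M214
  | 13 => M74
  | 14 => M208
  | 15 => M225
  | 16 => M230
  | 17 => M241
  | 21 => M243
  | 22 => M232
  | 23 => M227
  | 24 => M223
  | 25 => M245
  | 26 => M127
  | 28 => M0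
  | 29 => M235
  | 31 => M220
  | 32 => M216
  | 34 => M237
  | 35 => M218
  | 37 => M207
  | 38 => M240
  | 39 => M226
  | 41 => M93
  | 42 => M213
  | 43 => M231
  | 46 => M210
  | 47 => M221
  | 48 => M212
  | 49 => M209
  | 51 => M211
  | 53 => M222
  | 55 => M219
  | 56 => M2
  | 58 => M217
  | 59 => M215
  | 61 => M236
  | 62 => M234
  | 64 => M238
  | 65 => M247
  | 66 => M75
  | 67 => M239
  | 69 => M244
  | 71 => M246
  | 73 => M233
  | 74 => M229
  | 75 => M224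
  | 77 => M228
  | 78 => M242
  | 79 => M98
  | _ => oneB 112

theorem kel_spec : ∀ p ∈ codes, Rp (kel p) (kmat p) ∧ kel p ∈ Subgroup.normalizer ((Subgroup.closure {ea, eb} : Subgroup Cfsg.Spor.J4) : Set Cfsg.Spor.J4) := by
  simp only [codes, List.forall_mem_cons, List.not_mem_nil, false_imp_iff, implies_true, and_true]
  exact ⟨⟨R214, N214⟩,
    ⟨R74, N74⟩,
    ⟨R208, N208⟩,
    ⟨R225, N225⟩,
    ⟨R230, N230⟩,
    ⟨R241, N241⟩,
    ⟨R243, N243⟩,
    ⟨R232, N232⟩,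
    ⟨R227, N227⟩,
    ⟨R223, N223⟩,
    ⟨R245, N245⟩,
    ⟨R127, N127⟩,
    ⟨R0, N0⟩,
    ⟨R235, N235⟩,
    ⟨R220, N220⟩,
    ⟨R216, N216⟩,
    ⟨R237, N237⟩,
    ⟨R218, N218⟩,
    ⟨R207, N207⟩,
    ⟨R240, N240⟩,
    ⟨R226, N226⟩,
    ⟨R93, N93⟩,
    ⟨R213, N213⟩,
    ⟨R231, N231⟩,
    ⟨R210, N210⟩,
    ⟨R221, N221⟩,
    ⟨R212, N212⟩,
    ⟨R209, N209⟩,
    ⟨R211, N211⟩,
    ⟨R222, N222⟩,
    ⟨R219, N219⟩,
    ⟨R2, N2⟩,
    ⟨R217, N217⟩,
    ⟨R215, N215⟩,
    ⟨R236, N236⟩,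
    ⟨R234, N234⟩,
    ⟨R238, N238⟩,
    ⟨R247, N247⟩,
    ⟨R75, N75⟩,
    ⟨R239, N239⟩,
    ⟨R244, N244⟩,
    ⟨R246, N246⟩,
    ⟨R233, N233⟩,
    ⟨R229, N229⟩,
    ⟨R224, N224⟩,
    ⟨R228, N228⟩,
    ⟨R242, N242⟩,
    ⟨R98, N98⟩⟩

/-- left factor of the sum of powers -/
abbrev certP : ℕ := 0x300000000000000000000000000030000000000000000000000000002000000000000000000000000000000000000000000000000000000020000000000000000000000000000000000000000000000000000000100000000000000000000000000020000000000000000000000000000000000000000000000000000000300000000000000000000000000000000000000000000000000000003000000000000000000000000000000000000000000000000000000030000000000000000000000000001000000000000000000000000000100000000000000000000000000020000000000000000000000000003000000000000000000000000000100000000000000000000000000000000000000000000000000000001000000000000000000000000000300000000000000000000000000030000000000000000000000000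000000000000000000000000000000200000000000000000000000000000000000000000000000000000001000000000000000000000000000100000000000000000000000000000000000000000000000000000001000000000000000000000000000000000000000000000000000000010000000000000000000000000003000000000000000000000000000000000000000000000000000000030000000000000000000000000003000000000000000000000000000000000000000000000000000000010000000000000000000000000002000000000000000000000000000200000000000000000000000000010000000000000000000000000001000000000000000000000000000000000000000000000000000000030000000000000000000000000000000000000000000000000000000100000000000000000000000000020000000000000000000000000002000000000000000000000000000300000000000000000000000000010000000000000000000000000002000000000000000000000000000100000000000000000000000000010000000000000000000000000000000000000000000000000000000000000000000000000000000000020000000000000000000000000001000000000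000000000000000000200000000000000000000000000030000000000000000000000000003000000000000000000000000000300000000000000000000000000030000000000000000000000000001000000000000000000000000000100000000000000000000000000030000000000000000000000000003000000000000000000000000000100000000000000000000000000010000000000000000000000000002000000000000000000000000000000000000000000000000000000010000000000000000000000000000000000000000000000000000000200000000000000000000000000020000000000000000000000000002000000000000000000000000000000000000000000000000000000030000000000000000000000000003000000000000000000000000000300000000000000000000000000010000000000000000000000000003000000000000000000000000000100000000000000000000000000030000000000000000000000000002000000000000000000000000000300000000000000000000000000010000000000000000000000000000000000000000000000000000000000000000000000000000000000000000000000000000000000000003000000000000000000000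0000000000000000000000000000000000300000000000000000000000000000000000000000000000000000000000000000000000000000000000000000000000000000000000000020000000000000000000000000000000000000000000000000000000000000000000000000000000000030000000000000000000000000003000000000000000000000000000200000000000000000000000000000000000000000000000000000003000000000000000000000000000000000000000000000000000000030000000000000000000000000001000000000000000000000000000200000000000000000000000000010000000000000000000000000001000000000000000000000000000000000000000000000000000000020000000000000000000000000001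

/-- right factor of the sum of powers -/
abbrev certR : ℕ := 0x15958b9b211dd75e93836f1b54a7a95f0783aeca588bcef9129a0fdf

/-- row selection -/
abbrev certL : ℕ := 0x2ff90000000000000000000000002c7800000000000000000000000029da

/-- column selection -/
abbrev certM : ℕ := 0x10000000000000000000000000002000000000000000000000000000400000000000000000000000000000000000000000000000000000000000000000000000000000000000000000000000000000000000000000000000000000000000000000000000000000000000000000000000000000000000000000000000000000000000000000000000000000000000000000000000000000000000000000000000000000000000000000000000000000000000000000000000000000000000000000000000000000000000000000000000000000000000000000000000000000000000000000000000000000000000000000000000000000000000000000000000000000000000000000000000000000000000000000000000000000000000000000000000000000000000000000000000000000000000000000000000000000000000000000000000000000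000000000000000000000000000000000000000000000000000000000000000000000000000000000000000000000000000000000000000000000000000000000000000000000000000000000000000000000000000000000000000000000000000000000000000000000000000000000000000000000000000000000000000000000000000000000000000000000000000000000000000000000000000000000000000000000000000000000000000000000000000000000000000000000000000000000000000000000000000000000000000000000000000000000000000000000000000000000000000000000000000000000000000000000000000000000000000000000000000000000000000000000000000000000000000000000000000000000000000000000000000000000000000000000000000000000000000000000000000000000000000000000000000000000000000000000000000000000000000000000000000000000000000000000000000000000000000000000000000000000000000000000000000000000000000000000000000000000000000000000000000000000000000000000000000000000000000000000000000000000000000000000000000000000000000000000000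000000000000000000000000000000000000000000000000000000000000000000000000000000000000000000000000000000000000000000000000000000000000000000000000000000000000000000000000000000000000000000000000000000000000000000000000000000000000000000000000000000000000000000000000000000000000000000000000000000000000000000000000000000000000000000000000000000000000000000000000000000000000000000000000000000000000000000000000000000000000000000000000000000000000000000000000000000000000000000000000000000000000000000000000000000000000000000000000000000000000000000000000000000000000000000000000000000000000000000000000000000000000000000000000000000000000000000000000000000000000000000000000000000000000000000000000000000000000000000000000000000000000000000000000000000000000000000000000000000000000000000000000000000000000000000000000000000000000000000000000000000000000000000000000000000000000000000000000000000000000000000000000000000000000000000000000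00000000000000000000000000000000000000000000000000000000000000000000000000000000000000000000000000000000000000000000000000000000000000000000000000000000000000000000000000000000000000000000000000000000000000000000000000000000000000000000000000000000000000000000000000000000000000000000000000000000000000000000000000000000000000000000000000000000000000000000000000000000000000000000000000000000000000000000000000000000000000000000000000000000000000000000000000000000000000000000000000000000000000000000000000000000000000000000000000000000000000000000000000000000000000000000000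

/-- the matrix of the non-central element -/
abbrev ma : ℕ := M73

/-- the matrix of the central element -/
abbrev mc : ℕ := M92

theorem Ra : Rp ea ma := R73

theorem Rc : Rp ec mc := R92

theorem five_mem : ∃ g ∈ Subgroup.normalizer ((Subgroup.closure {ea, eb} : Subgroup Cfsg.Spor.J4) : Set Cfsg.Spor.J4), orderOf g = 5 := ⟨E149, N149, five⟩

end CfsgLib.Spor.J4Local.Eleven11
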