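import Cfsg.Agent.S5569
import Cfsg.Agent.Lib.Spor.LargeJ4.Fused
import Cfsg.Agent.Lib.Spor.J4Local.Arith

/-!
In a group of fourth Janko type no element of order 2, 3, 5 or 7 centralises an element of large
prime order (the local facts for 3, 5, 7 are hypotheses).
-/

set_option autoImplicit false

namespace CfsgLib.Spor.J4Local

open Subgroup Cfsg
open scoped Pointwise

variable {G : Type*} [Group G] [Finite G]

theorem not_dvd_of_mem {p n : ℕ} (hp : p ∈ bigs) (hn : n = 2 ^ 21 * 10395 ∨ n = 2 ^ 11 * 887040 ∨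
    n = 2 ^ 8 * 3 * 5 * 7 ∨ n = 2 ^ 3 * 3 ^ 2 * 5 * 7) : ¬ p ∣ n := by
  simp only [bigs, List.mem_cons, List.not_mem_nil, or_false] at hp
  rcases hp with rfl | rfl | rfl | rfl | rfl <;> rcases hn with rfl | rfl | rfl | rfl <;> norm_num

theorem card_centralizer_z {z : G} (hJ : IsOfJankoFourTypeAt z) :
    Nat.card ↥(Subgroup.centralizer ({z} : Set G)) = 2 ^ 21 * 10395 := by
  obtain ⟨P, hP⟩ := hJ
  obtain ⟨D⟩ := CfsgLib.Spor.LargeFi.J4.model_of_type hP
  exact D.card_H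

theorem centralizer_singleton_conj (g x : G) :
    Nat.card ↥(Subgroup.centralizer ({g * x * g⁻¹} : Set G)) =
      Nat.card ↥(Subgroup.centralizer ({x} : Set G)) := by
  refine Nat.card_congr ((MulAut.conj g⁻¹).toEquiv.subtypeEquiv fun y => ?_)
  rw [Subgroup.mem_centralizer_singleton_iff, Subgroup.mem_centralizer_singleton_iff]
  show y * (g * x * g⁻¹) = g * x * g⁻¹ * y ↔ g⁻¹ * y * g⁻¹⁻¹ * x = x * (g⁻¹ * y * g⁻¹⁻¹)
  constructor
  · intro h
    calc g⁻¹ * y * g⁻¹⁻¹ * x = g⁻¹ * (y * (g * x * g⁻¹)) * g := by group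
      _ = x * (g⁻¹ * y * g⁻¹⁻¹) := by rw [h]; group
  · intro h
    calc y * (g * x * g⁻¹) = g * (g⁻¹ * y * g⁻¹⁻¹ * x) * g⁻¹ := by group
      _ = g * x * g⁻¹ * y := by rw [h]; group

/-- if `r ∣ |C(U)|` then some element of order `r` has a centraliser of order divisible by `|U|` -/
theorem exists_central {r : ℕ} [Fact r.Prime] (U : Subgroup G)
    (h : r ∣ Nat.card ↥(Subgroup.centralizer (U : Set G))) :
    ∃ x : G, orderOf x = r ∧ Nat.card ↥U ∣ Nat.card ↥(Subgroup.centralizer ({x} : Set G)) := by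
  obtain ⟨x, hx⟩ := exists_prime_orderOf_dvd_card' r h
  exact ⟨x, by rw [Subgroup.orderOf_coe, hx], Subgroup.card_dvd_of_le fun u hu =>
    Subgroup.mem_centralizer_singleton_iff.2 (x.2 u hu)⟩

theorem centralizer_le_normalizer_zpowers (x : G) :
    Subgroup.centralizer ({x} : Set G) ≤ Subgroup.normalizer (Subgroup.zpowers x : Set G) := by
  rw [← Subgroup.centralizer_closure, ← Subgroup.zpowers_eq_closure]
  exact Subgroup.centralizer_le_normalizer _

/-- a Sylow subgroup of prime order: every element of that order has the same normaliser order -/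
theorem dvd_normalizer_of_simple_sylow {r n : ℕ} [Fact r.Prime] (hr : ¬ r * r ∣ Nat.card G)
    (Q : Subgroup G) (hQ : Nat.card ↥Q = r)
    (hN : Nat.card ↥(Subgroup.normalizer (Q : Set G)) = n) {x : G} (hx : orderOf x = r) :
    Nat.card ↥(Subgroup.centralizer ({x} : Set G)) ∣ n := by
  have hsyl : ∀ R : Subgroup G, Nat.card ↥R = r → ∃ S : Sylow r G, (S : Subgroup G) = R := by
    intro R hR
    obtain ⟨S, hS⟩ := (IsPGroup.of_card (by rw [hR, pow_one] : Nat.card ↥R = r ^ 1)).exists_le_sylow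
    refine ⟨S, (Subgroup.eq_of_le_of_card_ge hS ?_).symm⟩
    obtain ⟨k, hk⟩ := IsPGroup.iff_card.1 S.2
    rw [hR, hk]
    rcases k with _ | _ | k
    · exact (Fact.out : r.Prime).one_lt.le
    · simp
    · exact absurd ((dvd_of_eq (by rw [pow_two])).trans
        ((pow_dvd_pow r (by omega : 2 ≤ k + 2)).trans (hk ▸ Subgroup.card_subgroup_dvd_card _))) hr
  obtain ⟨S, hS⟩ := hsyl Q hQ
  obtain ⟨T, hT⟩ := hsyl _ (by rw [Nat.card_zpowers, hx] : Nat.card ↥(Subgroup.zpowers x) = r)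
  obtain ⟨g, hg⟩ := MulAction.exists_smul_eq G S T
  have hT' : Subgroup.zpowers x = Q.map (MulAut.conj g).toMonoidHom := by
    rw [← hT, ← hg, ← hS]; rfl
  refine (Subgroup.card_dvd_of_le (centralizer_le_normalizer_zpowers x)).trans ?_
  rw [hT', ← Subgroup.map_equiv_normalizer_eq, Subgroup.card_map_of_injective
    (MulAut.conj g).injective, hN]

variable [IsSimpleGroup G]

/-- The exclusion of the small primes for a subgroup whose order divides no local order. -/
theorem small_not_dvd_of (hG : ¬ IsMulCommutative G) {z : G} {P : Subgroup G}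
    (hJ : IsOfJankoFourTypeWith z P)
    (h3 : ∀ x y : G, orderOf x = 3 → orderOf y = 3 → IsConj x y)
    (hNP : Subgroup.normalizer (P : Set G) ≤ Subgroup.centralizer ({z} : Set G))
    (h5 : ∀ Q : Subgroup G, Nat.card ↥Q = 5 → Q ≤ Subgroup.centralizer ({z} : Set G) →
      ¬ (25 ∣ Nat.card G) ∧ Nat.card ↥(Subgroup.normalizer (Q : Set G)) = 2 ^ 8 * 3 * 5 * 7)
    (h7 : ∀ S : Subgroup G, Nat.card ↥S = 7 → S ≤ Subgroup.centralizer ({z} : Set G) →
      ¬ (49 ∣ Nat.card G) ∧ Nat.card ↥(Subgroup.normalizer (S : Set G)) = 2 ^ 3 * 3 ^ 2 * 5 * 7)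
    (n : ℕ) (hn : ∀ m : ℕ, (m = 2 ^ 21 * 10395 ∨ m = 2 ^ 11 * 887040 ∨ m = 2 ^ 8 * 3 * 5 * 7 ∨
      m = 2 ^ 3 * 3 ^ 2 * 5 * 7) → ¬ n ∣ m) :
    ∀ U : Subgroup G, Nat.card ↥U = n → ∀ r ∈ [2, 3, 5, 7],
      ¬ r ∣ Nat.card ↥(Subgroup.centralizer (U : Set G)) := by
  have hz := card_centralizer_z ⟨P, hJ⟩
  have hzr : ∀ r : ℕ, r.Prime → r ∣ 2 ^ 21 * 10395 → ∃ Q : Subgroup G, Nat.card ↥Q = r ∧
      Q ≤ Subgroup.centralizer ({z} : Set G) := by
    intro r hr hd
    haveI := Fact.mk hr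
    obtain ⟨x, hx⟩ := exists_prime_orderOf_dvd_card'
      (G := ↥(Subgroup.centralizer ({z} : Set G))) r (hz ▸ hd)
    exact ⟨Subgroup.zpowers (x : G), by rw [Nat.card_zpowers, Subgroup.orderOf_coe, hx],
      Subgroup.zpowers_le.2 x.2⟩
  intro U hU r hr hd
  have hrp : r.Prime := by
    simp only [List.mem_cons, List.not_mem_nil, or_false] at hr
    rcases hr with rfl | rfl | rfl | rfl <;> norm_num
  haveI := Fact.mk hrp
  obtain ⟨x, hx, hxU⟩ := exists_central U hd
  rw [hU] at hxU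
  simp only [List.mem_cons, List.not_mem_nil, or_false] at hr
  rcases hr with rfl | rfl | rfl | rfl
  · by_cases hc : IsConj z x
    · obtain ⟨g, rfl⟩ := isConj_iff.1 hc
      rw [centralizer_singleton_conj, hz] at hxU
      exact hn _ (Or.inl rfl) hxU
    · obtain ⟨V, K, -, hK, hVn, -, hV, hKV, hsup, ⟨e⟩⟩ :=
        Cfsg.Agent.S5569.result hG z ⟨P, hJ⟩ x hx hc
      have hKN : K ≤ Subgroup.normalizer (V : Set G) := hK.trans hVn
      have hcard : Nat.card ↥(Subgroup.centralizer ({x} : Set G)) = 2 ^ 11 * 887040 := by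
        rw [← hsup]
        have hVN : V ≤ Subgroup.normalizer (V : Set G) := Subgroup.le_normalizer
        have hbot : V ⊓ K = ⊥ := by rw [inf_comm, hKV]
        have hset : ((K ⊔ V : Subgroup G) : Set G) = (K : Set G) * (V : Set G) :=
          Subgroup.coe_mul_of_left_le_normalizer_right _ _ hKN
        have hbij : Function.Bijective (fun q : ↥K × ↥V => (⟨(q.1 : G) * q.2,
            Subgroup.mul_mem_sup q.1.2 q.2.2⟩ : ↥(K ⊔ V))) := by
          constructor
          · intro a b h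
            exact Subgroup.mul_injective_of_disjoint
              (disjoint_iff.2 hKV) (congrArg Subtype.val h)
          · rintro ⟨y, hy⟩
            rw [← SetLike.mem_coe, hset] at hy
            obtain ⟨a, ha, b, hb, rfl⟩ := hy
            exact ⟨(⟨a, ha⟩, ⟨b, hb⟩), rfl⟩
        rw [← Nat.card_eq_of_bijective _ hbij, Nat.card_prod, hV, Nat.card_congr e.toEquiv,
          CfsgLib.Spor.JankoFourCentral.natCard_mulAut_M22]
        norm_num
      rw [hcard] at hxU
      exact hn _ (Or.inr (Or.inl rfl)) hxU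
  · obtain ⟨y, hy⟩ := exists_prime_orderOf_dvd_card' (G := ↥P) 3 (by rw [hJ.2.2.2.2.2.1])
    obtain ⟨g, rfl⟩ := isConj_iff.1 (h3 (y : G) x (by rw [Subgroup.orderOf_coe, hy]) hx)
    rw [centralizer_singleton_conj] at hxU
    have hPy : Subgroup.zpowers (y : G) = P :=
      Subgroup.eq_of_le_of_card_ge (Subgroup.zpowers_le.2 y.2)
        (by rw [Nat.card_zpowers, Subgroup.orderOf_coe, hy, hJ.2.2.2.2.2.1])
    have h := Subgroup.card_dvd_of_le ((centralizer_le_normalizer_zpowers (y : G)).trans (hPy ▸ hNP))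
    rw [hz] at h
    exact hn _ (Or.inl rfl) (hxU.trans h)
  · obtain ⟨Q, hQ, hQz⟩ := hzr 5 (by norm_num) (by norm_num)
    obtain ⟨h25, hN⟩ := h5 Q hQ hQz
    exact hn _ (Or.inr (Or.inr (Or.inl rfl)))
      (hxU.trans (dvd_normalizer_of_simple_sylow h25 Q hQ hN hx))
  · obtain ⟨Q, hQ, hQz⟩ := hzr 7 (by norm_num) (by norm_num)
    obtain ⟨h25, hN⟩ := h7 Q hQ hQz
    exact hn _ (Or.inr (Or.inr (Or.inr rfl)))
      (hxU.trans (dvd_normalizer_of_simple_sylow h25 Q hQ hN hx))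

/-- The exclusion of the small primes. -/
theorem small_not_dvd (hG : ¬ IsMulCommutative G) {z : G} {P : Subgroup G}
    (hJ : IsOfJankoFourTypeWith z P)
    (h3 : ∀ x y : G, orderOf x = 3 → orderOf y = 3 → IsConj x y)
    (hNP : Subgroup.normalizer (P : Set G) ≤ Subgroup.centralizer ({z} : Set G))
    (h5 : ∀ Q : Subgroup G, Nat.card ↥Q = 5 → Q ≤ Subgroup.centralizer ({z} : Set G) →
      ¬ (25 ∣ Nat.card G) ∧ Nat.card ↥(Subgroup.normalizer (Q : Set G)) = 2 ^ 8 * 3 * 5 * 7)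
    (h7 : ∀ S : Subgroup G, Nat.card ↥S = 7 → S ≤ Subgroup.centralizer ({z} : Set G) →
      ¬ (49 ∣ Nat.card G) ∧ Nat.card ↥(Subgroup.normalizer (S : Set G)) = 2 ^ 3 * 3 ^ 2 * 5 * 7) :
    ∀ p ∈ bigs, ∀ U : Subgroup G, Nat.card ↥U = p → ∀ r ∈ [2, 3, 5, 7],
      ¬ r ∣ Nat.card ↥(Subgroup.centralizer (U : Set G)) :=
  fun p hp => small_not_dvd_of hG hJ h3 hNP h5 h7 p fun _ hm => not_dvd_of_mem hp hm

end CfsgLib.Spor.J4Local
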